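import Cfsg.Agent.Lib.Chars.Char
import Cfsg.Agent.Lib.CharApps.ClassCount

/-!
A real class function whose positivity puts an element into the square of a real class.
-/

set_option autoImplicit false

namespace CfsgLib.ThompsonRee

open Cfsg CfsgLib.Chars Finset
open scoped ComplexConjugate

universe u

variable {G : Type u} [Group G]

/-- being a product of two conjugates -/
def CC (x g : G) : Prop := ∃ u v : G, g = (u * x * u⁻¹) * (v * x * v⁻¹)

theorem CC.conj {x g : G} (h : CC x g) (c : G) : CC x (c * g * c⁻¹) := by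
  obtain ⟨u, v, rfl⟩ := h
  exact ⟨c * u, c * v, by group⟩

theorem CC.of_conj {x g c : G} (h : CC (c * x * c⁻¹) g) : CC x g := by
  obtain ⟨u, v, rfl⟩ := h
  exact ⟨u * c, v * c, by group⟩

/-- the squared absolute value of a character at the base point -/
noncomputable def wt (x : G) (χ : IrrCharacter G) : ℝ := ‖(χ : G → ℂ) x‖ ^ 2

theorem wt_nonneg (x : G) (χ : IrrCharacter G) : 0 ≤ wt x χ := sq_nonneg _

theorem wt_one (x : G) : wt x (CharApps.oneIrr G) = 1 := by simp [wt, CharApps.oneIrr_apply]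

/-- the count of products, normalised -/
noncomputable def fv [Fintype (IrrCharacter G)] (x g : G) : ℝ :=
  ∑ χ : IrrCharacter G, wt x χ * ((χ : G → ℂ) g).re / (charDegree (χ : G → ℂ) : ℝ)

variable [Fintype (IrrCharacter G)]

theorem fv_conj (x c g : G) : fv x (c * g * c⁻¹) = fv x g :=
  Finset.sum_congr rfl fun χ _ => by rw [isClassFunction_irr χ g c]

variable [Fintype G]

theorem fv_inv (x g : G) : fv x g⁻¹ = fv x g :=
  Finset.sum_congr rfl fun χ _ => by rw [irr_inv, Complex.conj_re]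

theorem sum_normSq (g : G) :
    ∑ χ : IrrCharacter G, ‖(χ : G → ℂ) g‖ ^ 2 = (Nat.card (Subgroup.centralizer {g}) : ℝ) := by
  classical
  have h := second_orthogonality g g
  rw [if_pos (IsConj.refl g)] at h
  have e : ∀ χ : IrrCharacter G,
      (χ : G → ℂ) g * conj ((χ : G → ℂ) g) = ((‖(χ : G → ℂ) g‖ ^ 2 : ℝ) : ℂ) := fun χ => by
    rw [Complex.mul_conj, Complex.normSq_eq_norm_sq]
  simp only [e, ← Complex.ofReal_sum] at h
  have h' := congrArg Complex.re h
  rwa [Complex.ofReal_re, Complex.natCast_re] at h'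

theorem sum_wt (x : G) : ∑ χ : IrrCharacter G, wt x χ = (Nat.card (Subgroup.centralizer {x}) : ℝ) :=
  sum_normSq x

theorem norm_le {g : G} (χ : IrrCharacter G) {B : ℝ} (hB : 0 ≤ B)
    (h : (Nat.card (Subgroup.centralizer {g}) : ℝ) ≤ B ^ 2) : ‖(χ : G → ℂ) g‖ ≤ B := by
  rw [← pow_le_pow_iff_left₀ (norm_nonneg _) hB two_ne_zero]
  refine le_trans ?_ h
  rw [← sum_normSq g]
  exact Finset.single_le_sum (f := fun χ : IrrCharacter G => ‖(χ : G → ℂ) g‖ ^ 2)
    (fun i _ => sq_nonneg _) (Finset.mem_univ χ)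

theorem fv_one (x : G) : fv x 1 = (Nat.card (Subgroup.centralizer {x}) : ℝ) := by
  rw [← sum_wt x]
  refine Finset.sum_congr rfl fun χ _ => ?_
  rw [CharApps.deg_eq, Complex.natCast_re, mul_div_assoc,
    div_self (Nat.cast_ne_zero.2 (CharApps.deg_pos χ).ne'), mul_one]

theorem cc_of_pos {x b : G} (hb : b * x * b⁻¹ = x⁻¹) {g : G} (h : 0 < fv x g) : CC x g := by
  have hre : ∀ χ : IrrCharacter G, (χ : G → ℂ) x = conj ((χ : G → ℂ) x) := fun χ => by
    rw [← irr_inv, ← hb, isClassFunction_irr χ x b]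
  have key := congrArg Complex.re (CharApps.card_conj_mul_conj x x g)
  have e : (∑ χ : IrrCharacter G,
      (χ : G → ℂ) x * (χ : G → ℂ) x * (χ : G → ℂ) g⁻¹ / (χ : G → ℂ) 1).re = fv x g := by
    rw [Complex.re_sum]
    refine Finset.sum_congr rfl fun χ _ => ?_
    have hx : (χ : G → ℂ) x * (χ : G → ℂ) x = ((wt x χ : ℝ) : ℂ) := by
      nth_rw 2 [hre χ]
      rw [wt, Complex.mul_conj, Complex.normSq_eq_norm_sq]
    rw [hx, irr_inv, CharApps.deg_eq, Complex.div_natCast_re, Complex.re_ofReal_mul, Complex.conj_re]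
  rw [Complex.natCast_re, Complex.mul_re, Complex.natCast_re, Complex.natCast_im, zero_mul, sub_zero, e] at key
  have hpos : 0 < Nat.card {ab : G × G // (ab.1 * x * ab.1⁻¹) * (ab.2 * x * ab.2⁻¹) = g} := by
    have : (0 : ℝ) < Nat.card G * fv x g := mul_pos (Nat.cast_pos.2 Nat.card_pos) h
    rw [← key] at this
    exact_mod_cast this
  obtain ⟨⟨⟨u, v⟩, huv⟩⟩ := (Nat.card_pos_iff.1 hpos).1
  exact ⟨u, v, huv.symm⟩

section Bounds

variable {x g : G} {D B : ℝ}

theorem fv_dist (hD : 0 < D) (hdeg : ∀ χ, χ ≠ CharApps.oneIrr G → D ≤ (charDegree (χ : G → ℂ) : ℝ))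
    (hB : 0 ≤ B) (hg : (Nat.card (Subgroup.centralizer {g}) : ℝ) ≤ B ^ 2) :
    |fv x g - 1| ≤ ((Nat.card (Subgroup.centralizer {x}) : ℝ) - 1) * B / D := by
  classical
  rw [fv, ← Finset.add_sum_erase _ _ (Finset.mem_univ (CharApps.oneIrr G)), ← sum_wt x,
    ← Finset.add_sum_erase _ _ (Finset.mem_univ (CharApps.oneIrr G)), wt_one, CharApps.oneIrr_apply]
  rw [show charDegree ((CharApps.oneIrr G : IrrCharacter G) : G → ℂ) = 1 by
    rw [← CharApps.deg_eq_one_iff, CharApps.oneIrr_apply]]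
  simp only [Complex.one_re, Nat.cast_one, mul_one, div_one, add_sub_cancel_left]
  rw [Finset.sum_mul, Finset.sum_div]
  refine (Finset.abs_sum_le_sum_abs _ _).trans (Finset.sum_le_sum fun χ hχ => ?_)
  have hd := hdeg χ (Finset.mem_erase.1 hχ).1
  have hw := wt_nonneg x χ
  rw [abs_div, abs_mul, abs_of_nonneg hw, abs_of_pos (hD.trans_le hd)]
  gcongr
  exact (Complex.abs_re_le_norm _).trans (norm_le χ hB hg)

theorem fv_pos (hD : 0 < D) (hdeg : ∀ χ, χ ≠ CharApps.oneIrr G → D ≤ (charDegree (χ : G → ℂ) : ℝ))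
    (hB : 0 ≤ B) (hg : (Nat.card (Subgroup.centralizer {g}) : ℝ) ≤ B ^ 2)
    (h : ((Nat.card (Subgroup.centralizer {x}) : ℝ) - 1) * B < D) : 0 < fv x g := by
  have e := (abs_le.1 (fv_dist (x := x) hD hdeg hB hg)).1
  have h' : ((Nat.card (Subgroup.centralizer {x}) : ℝ) - 1) * B / D < 1 := by rwa [div_lt_one hD]
  linarith

theorem fv_le (hD : 0 < D) (hdeg : ∀ χ, χ ≠ CharApps.oneIrr G → D ≤ (charDegree (χ : G → ℂ) : ℝ))
    (hB : 0 ≤ B) (hg : (Nat.card (Subgroup.centralizer {g}) : ℝ) ≤ B ^ 2) :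
    fv x g ≤ 1 + ((Nat.card (Subgroup.centralizer {x}) : ℝ) - 1) * B / D := by
  have e := (abs_le.1 (fv_dist (x := x) hD hdeg hB hg)).2
  linarith

end Bounds

/-- the sum over a subgroup is at least its order -/
theorem sum_fv_ge (x : G) (H : Subgroup G) [Fintype H] : (Nat.card H : ℝ) ≤ ∑ h : H, fv x h := by
  classical
  have hterm : ∀ χ : IrrCharacter G, ∃ j : ℕ, ∑ h : H, (χ : G → ℂ) h = ((Nat.card H * j : ℕ) : ℂ) := by
    intro χ
    obtain ⟨j, hj⟩ := inner_irr_right_nat (isCharacter_restrict H (isCharacter_of_irr χ.2))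
      (CharApps.oneIrr H)
    rw [inner_def, inv_mul_eq_iff_eq_mul₀ (card_ne_zero H)] at hj
    refine ⟨j, ?_⟩
    rw [Nat.cast_mul, ← hj]
    exact Finset.sum_congr rfl fun h _ => by rw [CharApps.oneIrr_apply, map_one, mul_one]
  simp only [fv]
  rw [Finset.sum_comm, ← Finset.add_sum_erase _ _ (Finset.mem_univ (CharApps.oneIrr G))]
  refine le_add_of_le_of_nonneg (le_of_eq ?_) (Finset.sum_nonneg fun χ _ => ?_)
  · rw [show charDegree ((CharApps.oneIrr G : IrrCharacter G) : G → ℂ) = 1 by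
      rw [← CharApps.deg_eq_one_iff, CharApps.oneIrr_apply]]
    simp [wt_one, CharApps.oneIrr_apply, Nat.card_eq_fintype_card]
  · obtain ⟨j, hj⟩ := hterm χ
    rw [← Finset.sum_div, ← Finset.mul_sum, ← Complex.re_sum, hj, Complex.natCast_re]
    have := wt_nonneg x χ
    positivity

end CfsgLib.ThompsonRee
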