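import Cfsg.Agent.Lib.KnownB.ThompsonRee.Torus

/-!
All characters but a star of equal degree are constant on the non-identity elements of the subgroup.
-/

set_option autoImplicit false
set_option linter.style.haveILetI false

namespace CfsgLib.ThompsonRee

open Cfsg CfsgLib.Chars Finset
open scoped ComplexConjugate Classical

universe u

/-- **vectors of norm two with inner products one share a coordinate** -/
theorem star {ι M : Type*} [Fintype ι] (d : ι → ℤ) (hd : ∀ i, 0 < d i) (v : M → ι → ℤ)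
    (h2 : ∀ a, ∑ i, v a i * v a i = 2) (h1 : ∀ a b, v a ≠ v b → ∑ i, v a i * v b i = 1)
    (h0 : ∀ a, ∑ i, v a i * d i = 0) {p q : M} (hpq : v p ≠ v q) :
    ∃ (o : ι) (s : ℤ), (s = 1 ∨ s = -1) ∧ ∀ a, v a o = s ∧ ∃ b, b ≠ o ∧ v a b = -s ∧ d b = d o ∧
      ∀ i, i ≠ o → i ≠ b → v a i = 0 := by
  classical
  have supp : ∀ a, ∃ x y, x ≠ y ∧ v a x = 1 ∧ v a y = -1 ∧ d x = d y ∧ ∀ i, i ≠ x → i ≠ y → v a i = 0 := by
    intro a
    have hle : ∀ i, v a i = 0 ∨ v a i = 1 ∨ v a i = -1 := fun i => by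
      have := Finset.single_le_sum (f := fun i => v a i * v a i) (fun j _ => mul_self_nonneg _) (Finset.mem_univ i)
      rw [h2] at this
      have : -1 ≤ v a i ∧ v a i ≤ 1 := by constructor <;> nlinarith
      omega
    have hcard : (univ.filter fun i => v a i ≠ 0).card = 2 := by
      have e : ∀ i, v a i * v a i = if v a i ≠ 0 then 1 else 0 := fun i => by
        rcases hle i with e | e | e <;> simp [e]
      have := h2 a
      simp only [e, Finset.sum_boole] at this
      exact_mod_cast this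
    obtain ⟨x, y, hxy, hs⟩ := Finset.card_eq_two.1 hcard
    have hzero : ∀ i, i ≠ x → i ≠ y → v a i = 0 := fun i hi hi' => by
      by_contra hne
      have : i ∈ ({x, y} : Finset ι) := hs ▸ Finset.mem_filter.2 ⟨Finset.mem_univ _, hne⟩
      simp [hi, hi'] at this
    have hxy0 : ∀ i ∈ ({x, y} : Finset ι), v a i ≠ 0 := fun i hi => (Finset.mem_filter.1 (show i ∈ univ.filter (fun j => v a j ≠ 0) by rw [hs]; exact hi)).2
    have hx := hxy0 x (by simp)
    have hy := hxy0 y (by simp)
    have hsum := h0 a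
    rw [← Finset.sum_subset (Finset.subset_univ ({x, y} : Finset ι)) fun i _ hi => by
      simp only [Finset.mem_insert, Finset.mem_singleton, not_or] at hi
      rw [hzero i hi.1 hi.2, zero_mul], Finset.sum_pair hxy] at hsum
    have := hd x
    have := hd y
    rcases (hle x).resolve_left hx with ex | ex <;> rcases (hle y).resolve_left hy with ey | ey <;>
      rw [ex, ey] at hsum
    · omega
    · exact ⟨x, y, hxy, ex, ey, by omega, hzero⟩
    · exact ⟨y, x, hxy.symm, ey, ex, by omega, fun i hi hi' => hzero i hi' hi⟩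
    · omega
  choose X Y hne hX hY hdeg hzero using supp
  have ip : ∀ a b, ∑ i, v a i * v b i = v b (X a) - v b (Y a) := fun a b => by
    rw [← Finset.sum_subset (Finset.subset_univ ({X a, Y a} : Finset ι)) fun i _ hi => by
      simp only [Finset.mem_insert, Finset.mem_singleton, not_or] at hi
      rw [hzero a i hi.1 hi.2, zero_mul], Finset.sum_pair (hne a), hX, hY]
    ring
  have val : ∀ a i, v a i = (if i = X a then 1 else 0) - (if i = Y a then 1 else 0) := fun a i => by
    by_cases h : i = X a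
    · subst h; simp [hX, hne a]
    by_cases h' : i = Y a
    · subst h'; simp [hY, h]
    simp [hzero a i h h', h, h']
  have two : ∀ a b, v a ≠ v b → (X a = X b ∧ Y a ≠ Y b) ∨ (Y a = Y b ∧ X a ≠ X b) := fun a b hab => by
    have e := (ip a b).symm.trans (h1 a b hab)
    rw [val, val] at e
    have := hne a
    have := hne b
    split_ifs at e <;> first | omega | grind
  have all : ∀ a, v a = v p ∨ v a = v q ∨ (v a ≠ v p ∧ v a ≠ v q) := fun a => by tauto
  rcases two p q hpq with ⟨hx, hy⟩ | ⟨hy, hx⟩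
  · refine ⟨X p, 1, Or.inl rfl, fun a => ?_⟩
    have hXa : X a = X p := by
      rcases all a with e | e | ⟨ep, eq⟩
      · have := congrFun e (X p)
        rw [hX, val] at this
        split_ifs at this <;> first | omega | grind
      · have := congrFun e (X q)
        rw [hX, val] at this
        split_ifs at this <;> first | omega | grind
      · rcases two a p ep with ⟨e1, -⟩ | ⟨e1, e2⟩
        · exact e1
        rcases two a q eq with ⟨e3, -⟩ | ⟨e3, -⟩
        · exact e3.trans hx.symm
        · exact absurd (e1.symm.trans e3) hy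
    exact ⟨hXa ▸ hX a, Y a, hXa ▸ (hne a).symm, hY a, hXa ▸ (hdeg a).symm, hXa ▸ hzero a⟩
  · refine ⟨Y p, -1, Or.inr rfl, fun a => ?_⟩
    have hYa : Y a = Y p := by
      rcases all a with e | e | ⟨ep, eq⟩
      · have := congrFun e (Y p)
        rw [hY, val] at this
        split_ifs at this <;> first | omega | grind
      · have := congrFun e (Y q)
        rw [hY, val] at this
        split_ifs at this <;> first | omega | grind
      · rcases two a p ep with ⟨e1, e2⟩ | ⟨e1, -⟩
        · rcases two a q eq with ⟨e3, -⟩ | ⟨e3, -⟩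
          · exact absurd (e1.symm.trans e3) hx
          · exact e3.trans hy.symm
        · exact e1
    exact ⟨hYa ▸ hY a, X a, hYa ▸ hne a, by rw [hX]; norm_num, hYa ▸ hdeg a,
      fun i hi hi' => hzero a i hi' (hYa.symm ▸ hi)⟩

/-- twice a sum of squared differences -/
theorem sum_sub_sq {α : Type*} [Fintype α] (m : α → ℤ) :
    ∑ a, ∑ b, (m a - m b) ^ 2 = 2 * (Fintype.card α * ∑ a, m a ^ 2 - (∑ a, m a) ^ 2) := by
  simp only [sub_sq, Finset.sum_add_distrib, Finset.sum_sub_distrib, Finset.sum_const, nsmul_eq_mul,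
    ← Finset.mul_sum, ← Finset.sum_mul, Finset.card_univ]
  ring

variable {G : Type u} [Group G] [Fintype G] [Fintype (IrrCharacter G)] {T : Subgroup G} [Fintype T]
variable [Fintype (IrrCharacter T)] [Fintype (Subgroup.normalizer ((T : Subgroup G) : Set G))]
variable {n : ℕ} (h : TI T n)

local notation "N" => Subgroup.normalizer ((T : Subgroup G) : Set G)

/-- the sum of a character over the non-identity elements -/
noncomputable def tsum (T : Subgroup G) [Fintype T] (n : ℕ) (χ : IrrCharacter G) : ℤ :=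
  (n : ℤ) * mlt χ (CharApps.oneIrr T) - charDegree (χ : G → ℂ)

include h

omit [Fintype (IrrCharacter G)] [Fintype (IrrCharacter T)] [Fintype (Subgroup.normalizer ((T : Subgroup G) : Set G))] in
theorem tsum_eq (χ : IrrCharacter G) :
    ∑ t : T, (if t = 1 then 0 else 1) * (χ : G → ℂ) t = (tsum T n χ : ℂ) := by
  have e := sum_mul_lin χ (CharApps.oneIrr T)
  simp only [CharApps.oneIrr_apply, map_one, mul_one] at e
  simp only [ite_mul, zero_mul, one_mul]
  rw [Finset.sum_ite, Finset.sum_const_zero, zero_add, Finset.filter_ne', tsum]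
  push_cast
  rw [← h.card, ← e, ← CharApps.deg_eq, ← Finset.add_sum_erase _ _ (Finset.mem_univ (1 : T))]
  simp

theorem tsum_sq : ∑ χ : IrrCharacter G, tsum T n χ ^ 2 = 6 * (n : ℤ) * (n - 1) := by
  classical
  have hp := pair h (fun t => if t = 1 then 0 else 1) (fun t => if t = 1 then 0 else 1) (by simp)
  simp only [tsum_eq h, map_intCast] at hp
  have e : ∀ g : N, ∑ t : T, (if t = 1 then (0 : ℂ) else 1) * conj (if act g t = 1 then (0 : ℂ) else 1) =
      (n : ℂ) - 1 := fun g => by
    have hiff : ∀ t, act g t = 1 ↔ t = 1 := fun t => ⟨fun e => by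
      have := congrArg (act g⁻¹) e
      rwa [← act_mul, inv_mul_cancel, act_one, map_one] at this, fun e => by rw [e, map_one]⟩
    simp only [hiff, apply_ite conj, map_zero, map_one, ite_mul, zero_mul, one_mul]
    rw [Finset.sum_ite, Finset.sum_const_zero, zero_add,
      Finset.sum_congr rfl fun x hx => if_neg (Finset.mem_filter.1 hx).2, Finset.sum_const, Finset.filter_ne',
      Finset.card_erase_of_mem (Finset.mem_univ _), Finset.card_univ, ← Nat.card_eq_fintype_card, h.card]
    have := h.big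
    simp only [nsmul_eq_mul, mul_one]
    rw [Nat.cast_sub (by omega)]
    simp
  simp only [e, Finset.sum_const, nsmul_eq_mul, Finset.card_univ, ← Nat.card_eq_fintype_card, h.norm] at hp
  have : ((∑ χ : IrrCharacter G, tsum T n χ ^ 2 : ℤ) : ℂ) = ((6 * (n : ℤ) * (n - 1) : ℤ) : ℂ) := by
    push_cast
    simp only [sq]
    rw [hp]
    push_cast
    ring
  exact_mod_cast this

theorem norm_total : ∑ χ : IrrCharacter G,
    ((n : ℤ) * ∑ l : IrrCharacter T, (mlt χ l : ℤ) ^ 2 - (charDegree (χ : G → ℂ) : ℤ) ^ 2) = n * (n - 1) := by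
  classical
  have e1 : ∀ χ : IrrCharacter G, (((n : ℤ) * ∑ l : IrrCharacter T, (mlt χ l : ℤ) ^ 2 -
      (charDegree (χ : G → ℂ) : ℤ) ^ 2 : ℤ) : ℂ) = ∑ t ∈ univ.erase (1 : T), (χ : G → ℂ) t * conj ((χ : G → ℂ) t) := by
    intro χ
    rw [Finset.sum_erase_eq_sub (Finset.mem_univ _), sum_norm_sq h.comm, h.card, Subgroup.coe_one,
      CharApps.conj_deg, CharApps.deg_eq]
    push_cast
    ring
  have e2 : ∀ t ∈ univ.erase (1 : T),
      ∑ χ : IrrCharacter G, (χ : G → ℂ) t * conj ((χ : G → ℂ) t) = (n : ℂ) := by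
    intro t ht
    rw [column, ← h.card]
    refine congrArg Nat.cast (Nat.card_congr
      { toFun := fun x => ⟨x.1, h.cent t t.2 (fun e => (Finset.mem_erase.1 ht).1 (Subtype.ext e)) x.1
          (mul_inv_eq_iff_eq_mul.1 x.2)⟩
        invFun := fun s => ⟨(s : G), by rw [h.comm _ s.2 _ t.2, mul_inv_cancel_right]⟩
        left_inv := fun _ => rfl
        right_inv := fun _ => rfl })
  have : ((∑ χ : IrrCharacter G, ((n : ℤ) * ∑ l : IrrCharacter T, (mlt χ l : ℤ) ^ 2 -
      (charDegree (χ : G → ℂ) : ℤ) ^ 2) : ℤ) : ℂ) = (((n : ℤ) * (n - 1) : ℤ) : ℂ) := by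
    rw [Int.cast_sum, Finset.sum_congr rfl fun χ _ => e1 χ, Finset.sum_comm, Finset.sum_congr rfl e2,
      Finset.sum_const, Finset.card_erase_of_mem (Finset.mem_univ _), Finset.card_univ,
      ← Nat.card_eq_fintype_card, h.card, nsmul_eq_mul, Nat.cast_sub (by have := h.big; omega)]
    push_cast
    ring
  exact_mod_cast this

/-- **the characters on the subgroup** -/
theorem shape : ∃ (E : Finset (IrrCharacter G)) (D S : ℤ),
    CharApps.oneIrr G ∉ E ∧
    (∀ χ ∈ E, (charDegree (χ : G → ℂ) : ℤ) = D ∧ tsum T n χ = S) ∧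
    (∃ c : IrrCharacter G → ℤ, (∀ χ ∉ E, ∀ t ∈ T, t ≠ 1 → (χ : G → ℂ) t = c χ) ∧
      (∀ χ ∉ E, tsum T n χ = ((n : ℤ) - 1) * c χ) ∧ ∑ χ ∈ univ.filter (· ∉ E), c χ ^ 2 ≤ 7) ∧
    S ^ 2 ≤ 36 * n ∧
    ∃ M c' s : ℤ, (s = 1 ∨ s = -1) ∧ D = n * M + c' - 6 * s ∧ S = ((n : ℤ) - 1) * c' + 6 * s := by
  classical
  have hn := h.big
  set one := CharApps.oneIrr T with hone
  let R : IrrCharacter T → IrrCharacter T → Prop := fun l r => lnk l r = n
  have hR : ∀ l r, r ≠ one → (R l r ↔ ∃ g : N, twist g r = l) := fun l r hr => lnk_iff h hr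
  have hone_tw : ∀ g : N, twist g one = one := fun g => Subtype.ext (funext fun t => rfl)
  have hne1 : ∀ l r, r ≠ one → R l r → l ≠ one := by
    rintro l r hr hlr rfl
    obtain ⟨g, hg⟩ := (hR _ _ hr).1 hlr
    refine hr ?_
    rw [← twist_one r, ← mul_inv_cancel g, ← twist_twist, hg, hone_tw]
  have hrefl : ∀ r, r ≠ one → R r r := fun r hr => (hR r r hr).2 ⟨1, twist_one r⟩
  have hsymm : ∀ l r, l ≠ one → r ≠ one → R l r → R r l := fun l r hl hr e => by
    obtain ⟨g, hg⟩ := (hR _ _ hr).1 e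
    exact (hR _ _ hl).2 ⟨g⁻¹, by rw [← hg, twist_twist, mul_inv_cancel, twist_one]⟩
  have htrans : ∀ a b c, b ≠ one → c ≠ one → R a b → R b c → R a c := fun a b c hb hc e e' => by
    obtain ⟨g, rfl⟩ := (hR _ _ hb).1 e
    obtain ⟨k, rfl⟩ := (hR _ _ hc).1 e'
    exact (hR _ _ hc).2 ⟨k * g, (twist_twist g k c).symm⟩
  have horb : ∀ r, r ≠ one → (univ.filter fun l => R l r).card = 6 := fun r hr => by
    have e : ∀ l, lnk l r = if R l r then n else 0 := fun l => by
      split_ifs with hl
      · exact hl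
      · exact (lnk_cases h hr).resolve_right hl
    have := lnk_sum h r
    rw [Finset.sum_congr rfl fun l _ => e l, ← Finset.sum_filter, Finset.sum_const, smul_eq_mul] at this
    exact Nat.eq_of_mul_eq_mul_right (by omega) this
  have hcardT : Fintype.card (IrrCharacter T) = n := by rw [card_lin h.comm, h.card]
  set nt := univ.filter (fun l : IrrCharacter T => l ≠ one) with hnt
  have hntc : nt.card = n - 1 := by
    rw [hnt, Finset.filter_ne', Finset.card_erase_of_mem (Finset.mem_univ _), Finset.card_univ, hcardT]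
  have pick : ∀ A : Finset (IrrCharacter T), A.card ≤ 12 → ∃ l, l ≠ one ∧ l ∉ A := fun A hA => by
    obtain ⟨l, hl, hlA⟩ := Finset.exists_mem_notMem_of_card_lt_card (s := A) (t := nt) (by omega)
    exact ⟨l, (Finset.mem_filter.1 hl).2, hlA⟩
  obtain ⟨l₀, hl₀, -⟩ := pick ∅ (by simp)
  obtain ⟨l₁, hl₁, h01⟩ := pick (univ.filter fun l => R l l₀) (by rw [horb _ hl₀]; norm_num)
  obtain ⟨l₂, hl₂, h02⟩ := pick ((univ.filter fun l => R l l₀) ∪ univ.filter fun l => R l l₁)
    ((Finset.card_union_le _ _).trans (by rw [horb _ hl₀, horb _ hl₁]))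
  simp only [Finset.mem_union, Finset.mem_filter, Finset.mem_univ, true_and, not_or] at h01 h02
  let Mt := {l : IrrCharacter T // l ≠ one ∧ ¬ R l l₀}
  let v : Mt → IrrCharacter G → ℤ := fun a χ => (mlt χ a.1 : ℤ) - mlt χ l₀
  have hn0 : (n : ℤ) ≠ 0 := by omega
  have hl : ∀ l r, r ≠ one → (lnk l r : ℤ) = if R l r then (n : ℤ) else 0 := fun l r hr => by
    split_ifs with hl'
    · exact_mod_cast hl'
    · exact_mod_cast (lnk_cases h hr).resolve_right hl'
  have hv : ∀ a b : Mt, ∑ χ, v a χ * v b χ = if R a.1 b.1 then 2 else 1 := fun a b => by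
    have e := mult_pair h a.1 l₀ b.1 l₀
    have h3 : ¬ R l₀ b.1 := fun e => b.2.2 (hsymm _ _ hl₀ b.2.1 e)
    rw [hl _ _ b.2.1, hl _ _ b.2.1, hl _ _ hl₀, hl _ _ hl₀, if_neg h3, if_neg a.2.2,
      if_pos (hrefl _ hl₀)] at e
    refine mul_left_cancel₀ hn0 (e.trans ?_)
    split_ifs <;> ring
  have hsame : ∀ a b : Mt, R a.1 b.1 → v a = v b := fun a b hab => by
    have e : ∑ χ, (v a χ - v b χ) ^ 2 = 0 := by
      simp only [sub_sq, Finset.sum_add_distrib, Finset.sum_sub_distrib, mul_assoc, ← Finset.mul_sum]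
      simp only [sq, hv, if_pos (hrefl _ a.2.1), if_pos (hrefl _ b.2.1), if_pos hab]
      ring
    funext χ
    have := (Finset.sum_eq_zero_iff_of_nonneg (fun i _ => sq_nonneg _)).1 e χ (Finset.mem_univ _)
    exact sub_eq_zero.1 (pow_eq_zero_iff two_ne_zero |>.1 this)
  have hdiff : ∀ a b : Mt, ¬ R a.1 b.1 → v a ≠ v b := fun a b hab e => by
    have e1 := hv a b
    rw [e, hv b b, if_pos (hrefl _ b.2.1), if_neg hab] at e1
    omega
  let deg : IrrCharacter G → ℤ := fun χ => (charDegree (χ : G → ℂ) : ℤ)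
  have hvsum : ∀ (a : Mt) (F : T → ℂ) (f : IrrCharacter G → ℤ),
      (∀ χ : IrrCharacter G, ∑ u : T, F u * (χ : G → ℂ) u = (f χ : ℂ)) →
      (∀ g : N, ∑ t : T, (conj ((a.1 : T → ℂ) t) - conj ((l₀ : T → ℂ) t)) * conj (F (act g t)) = 0) →
      ∑ χ, v a χ * f χ = 0 := by
    intro a F f hf hz
    have hp := pair h (fun t => conj ((a.1 : T → ℂ) t) - conj ((l₀ : T → ℂ) t)) F (by simp [lin_one h.comm])
    simp only [hz, Finset.sum_const_zero, hf, map_intCast] at hp
    have e : ((((n : ℤ) * ∑ χ, v a χ * f χ : ℤ)) : ℂ) = ((0 : ℤ) : ℂ) := by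
      rw [Int.cast_zero, ← hp]
      push_cast
      rw [Finset.mul_sum]
      refine Finset.sum_congr rfl fun χ _ => ?_
      simp only [sub_mul, Finset.sum_sub_distrib]
      simp only [v]
      push_cast
      rw [show ∑ t : T, conj ((a.1 : T → ℂ) t) * (χ : G → ℂ) t = (n : ℂ) * mlt χ a.1 by
          rw [← h.card, ← sum_mul_lin]; exact Finset.sum_congr rfl fun t _ => mul_comm _ _,
        show ∑ t : T, conj ((l₀ : T → ℂ) t) * (χ : G → ℂ) t = (n : ℂ) * mlt χ l₀ by
          rw [← h.card, ← sum_mul_lin]; exact Finset.sum_congr rfl fun t _ => mul_comm _ _]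
      ring
    exact (mul_eq_zero.1 (Int.cast_injective e)).resolve_left hn0
  have hlz : ∀ l : IrrCharacter T, l ≠ one → ∑ t : T, (l : T → ℂ) t = 0 := fun l hl' => by
    have := inner_irr_ne hl'
    rw [inner_def, mul_eq_zero] at this
    simpa [hone, CharApps.oneIrr_apply] using this.resolve_left (inv_ne_zero (card_ne_zero T))
  have hiff : ∀ (g : N) (t : T), act g t = 1 ↔ t = 1 := fun g t => ⟨fun e => by
      have := congrArg (act g⁻¹) e
      rwa [← act_mul, inv_mul_cancel, act_one, map_one] at this, fun e => by rw [e, map_one]⟩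
  have hvd : ∀ a, ∑ χ, v a χ * deg χ = 0 := fun a => hvsum a (fun u => if u = 1 then 1 else 0) deg
    (fun χ => by simp [deg, CharApps.deg_eq]) (fun g => by simp [hiff, apply_ite conj, lin_one h.comm])
  have hvS : ∀ a, ∑ χ, v a χ * tsum T n χ = 0 := fun a => hvsum a _ _ (tsum_eq h) (fun g => by
    simp only [hiff, apply_ite conj, map_one, map_zero, mul_ite, mul_zero, mul_one]
    rw [Finset.sum_ite, Finset.sum_const_zero, zero_add, Finset.filter_ne',
      Finset.sum_erase_eq_sub (Finset.mem_univ _), Finset.sum_sub_distrib, ← map_sum, ← map_sum,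
      hlz _ a.2.1, hlz _ hl₀]
    simp [lin_one h.comm])
  let m₁ : Mt := ⟨l₁, hl₁, h01⟩
  let m₂ : Mt := ⟨l₂, hl₂, h02.1⟩
  obtain ⟨o, s, hs, hstar⟩ := star deg (fun χ => Int.natCast_pos.2 (CharApps.deg_pos χ)) v
    (fun a => by rw [hv, if_pos (hrefl _ a.2.1)])
    (fun a b hab => by rw [hv, if_neg fun e => hab (hsame a b e)]) hvd
    (p := m₁) (q := m₂) (hdiff m₁ m₂ fun e => h02.2 (hsymm _ _ hl₁ hl₂ e))
  choose hso b hbo hsb hdb hzero using hstar
  have hS : ∀ a, tsum T n (b a) = tsum T n o := fun a => by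
    have e := hvS a
    rw [← Finset.sum_subset (Finset.subset_univ ({o, b a} : Finset (IrrCharacter G))) fun i _ hi => by
      simp only [Finset.mem_insert, Finset.mem_singleton, not_or] at hi
      rw [hzero a i hi.1 hi.2, zero_mul], Finset.sum_pair (hbo a).symm, hso, hsb] at e
    rcases hs with rfl | rfl <;> omega
  -- constant on nontrivial characters off the star
  set E : Finset (IrrCharacter G) := insert o (univ.image b) with hE
  have hin : ∀ χ, χ ∉ E → ∀ l, l ≠ one → mlt χ l = mlt χ l₀ := fun χ hχ => by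
    have hM : ∀ a : Mt, mlt χ a.1 = mlt χ l₀ := fun a => by
      have := hzero a χ (fun e => hχ (e ▸ Finset.mem_insert_self _ _))
        (fun e => hχ (Finset.mem_insert_of_mem (Finset.mem_image.2 ⟨a, Finset.mem_univ _, e.symm⟩)))
      simp only [v] at this
      omega
    intro l hl'
    by_cases hl0 : R l l₀
    · have e := mult_pair h l l₀ l l₀
      rw [hl _ _ hl', hl _ _ hl', hl _ _ hl₀, hl _ _ hl₀, if_pos (hrefl _ hl'),
        if_pos (hsymm _ _ hl' hl₀ hl0), if_pos hl0, if_pos (hrefl _ hl₀)] at e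
      have e' := (mul_eq_zero.1 (e.trans (by ring))).resolve_left hn0
      have := (Finset.sum_eq_zero_iff_of_nonneg (fun i _ => mul_self_nonneg _)).1 e' χ (Finset.mem_univ _)
      have := mul_self_eq_zero.1 this
      omega
    · exact hM ⟨l, hl', hl0⟩
  have hdeg : ∀ χ : IrrCharacter G, deg χ = (mlt χ one : ℤ) + ∑ l ∈ nt, (mlt χ l : ℤ) := fun χ => by
    rw [show deg χ = _ from deg_sum h.comm χ, hnt, Finset.filter_ne']
    exact (Finset.add_sum_erase _ (fun l => (mlt χ l : ℤ)) (Finset.mem_univ one)).symm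
  have hchi : ∀ χ, χ ∉ E → ∀ t ∈ T, t ≠ 1 → (χ : G → ℂ) t = ((mlt χ one : ℤ) - mlt χ l₀ : ℤ) := by
    intro χ hχ t ht ht1
    have ht1' : (⟨t, ht⟩ : T) ≠ 1 := fun e => ht1 (congrArg Subtype.val e)
    have h0 := sum_lin h.comm ⟨t, ht⟩ ht1'
    rw [← Finset.add_sum_erase _ _ (Finset.mem_univ one), show (one : T → ℂ) ⟨t, ht⟩ = 1 from rfl] at h0
    rw [show (χ : G → ℂ) t = _ from res_eq h.comm χ ⟨t, ht⟩, ← Finset.add_sum_erase _ _ (Finset.mem_univ one),
      show (one : T → ℂ) ⟨t, ht⟩ = 1 from rfl, mul_one,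
      Finset.sum_congr rfl fun l hl' => by rw [hin χ hχ l (Finset.mem_erase.1 hl').1], ← Finset.mul_sum]
    push_cast
    linear_combination (mlt χ l₀ : ℂ) * h0
  have htsum : ∀ χ, χ ∉ E → tsum T n χ = ((n : ℤ) - 1) * ((mlt χ one : ℤ) - mlt χ l₀) := fun χ hχ => by
    rw [tsum, ← hone]
    change (n : ℤ) * _ - deg χ = _
    rw [hdeg, Finset.sum_congr rfl fun l hl' => by rw [hin χ hχ l (Finset.mem_filter.1 hl').2],
      Finset.sum_const, hntc, nsmul_eq_mul, Nat.cast_sub (by omega)]
    push_cast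
    ring
  refine ⟨E, deg o, tsum T n o, ?_, ?_, ⟨fun χ => (mlt χ one : ℤ) - mlt χ l₀, hchi, htsum, ?_⟩, ?_, ?_⟩
  · intro h1
    have hm : ∀ l, l ≠ one → mlt (CharApps.oneIrr G) l = 0 := fun l hl' => by
      have e := sum_mul_lin (CharApps.oneIrr G) l
      simp only [CharApps.oneIrr_apply, one_mul, ← map_sum, hlz l hl', map_zero, h.card] at e
      have : (n : ℂ) ≠ 0 := Nat.cast_ne_zero.2 (by omega)
      exact_mod_cast (mul_eq_zero.1 e.symm).resolve_left this
    have hv1 : ∀ a, v a (CharApps.oneIrr G) = 0 := fun a => by simp [v, hm _ a.2.1, hm _ hl₀]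
    rcases Finset.mem_insert.1 h1 with e | e
    · have := hso m₁
      rw [← e, hv1] at this
      omega
    · obtain ⟨a, -, e⟩ := Finset.mem_image.1 e
      have := hsb a
      rw [e, hv1] at this
      omega
  · intro χ hχ
    rcases Finset.mem_insert.1 hχ with rfl | hχ
    · exact ⟨rfl, rfl⟩
    · obtain ⟨a, -, rfl⟩ := Finset.mem_image.1 hχ
      exact ⟨hdb a, hS a⟩
  · -- the count of squares
    set P := fun χ : IrrCharacter G => ∑ a ∈ nt, ∑ c ∈ nt, ((mlt χ a : ℤ) - mlt χ c) ^ 2
    set Q := fun χ : IrrCharacter G => (n : ℤ) * ∑ l : IrrCharacter T, (mlt χ l : ℤ) ^ 2 - deg χ ^ 2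
    have hPQ : ∀ χ, 2 * Q χ = P χ + 2 * ∑ c ∈ nt, ((mlt χ one : ℤ) - mlt χ c) ^ 2 := fun χ => by
      have e := sum_sub_sq fun l : IrrCharacter T => (mlt χ l : ℤ)
      rw [hcardT, ← deg_sum h.comm χ] at e
      simp only [Q, deg, P]
      rw [← e, hnt, Finset.filter_ne']
      rw [← Finset.add_sum_erase _ _ (Finset.mem_univ one)]
      simp only [← Finset.add_sum_erase _ _ (Finset.mem_univ one)]
      simp only [Finset.sum_add_distrib, sub_self, sq, zero_mul, mul_zero, zero_add]
      rw [show ∑ x ∈ univ.erase one, ((mlt χ x : ℤ) - mlt χ one) * ((mlt χ x : ℤ) - mlt χ one) =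
        ∑ x ∈ univ.erase one, ((mlt χ one : ℤ) - mlt χ x) * ((mlt χ one : ℤ) - mlt χ x) from
          Finset.sum_congr rfl fun x _ => by ring]
      ring
    have hP : ∑ χ, P χ = 2 * ((n : ℤ) - 1) * ((n : ℤ) - 7) := by
      have e2 : ∀ a ∈ nt, ∀ c ∈ nt, ∑ χ : IrrCharacter G, ((mlt χ a : ℤ) - mlt χ c) ^ 2 =
          if R a c then 0 else 2 := by
        intro a ha c hc
        have e := mult_pair h a c a c
        have ha' := (Finset.mem_filter.1 ha).2
        have hc' := (Finset.mem_filter.1 hc).2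
        rw [hl _ _ ha', hl _ _ ha', hl _ _ hc', hl _ _ hc', if_pos (hrefl _ ha'), if_pos (hrefl _ hc')] at e
        refine mul_left_cancel₀ hn0 ?_
        simp only [sq]
        rw [e]
        split_ifs with q1 q2
        · ring
        · exact absurd (hsymm _ _ hc' ha' q1) q2
        · exact absurd (hsymm _ _ ha' hc' ‹_›) q1
        · ring
      simp only [P]
      rw [Finset.sum_comm, Finset.sum_congr rfl fun a ha => by
        rw [Finset.sum_comm, Finset.sum_congr rfl fun c hc => e2 a ha c hc]]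
      have e3 : ∀ a ∈ nt, ∑ c ∈ nt, (if R a c then (0 : ℤ) else 2) = 2 * ((n : ℤ) - 7) := fun a ha => by
        have ha' := (Finset.mem_filter.1 ha).2
        have hf : nt.filter (fun c => R a c) = univ.filter fun c => R c a := by
          ext c
          simp only [hnt, Finset.mem_filter, Finset.mem_univ, true_and]
          exact ⟨fun h' => hsymm _ _ ha' h'.1 h'.2,
            fun h' => ⟨hne1 _ _ ha' h', hsymm _ _ (hne1 _ _ ha' h') ha' h'⟩⟩
        have hc6 := Finset.card_filter_add_card_filter_not (s := nt) (fun c => R a c)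
        rw [hf, horb _ ha', hntc] at hc6
        rw [Finset.sum_ite, Finset.sum_const_zero, zero_add, Finset.sum_const, nsmul_eq_mul]
        push_cast
        omega
      rw [Finset.sum_congr rfl e3, Finset.sum_const, hntc, nsmul_eq_mul, Nat.cast_sub (by omega)]
      push_cast
      ring
    have htot : ∑ χ, 2 * Q χ = 2 * ((n : ℤ) * (n - 1)) := by
      rw [← Finset.mul_sum]
      exact congrArg (2 * ·) (norm_total h)
    rw [Finset.sum_congr rfl fun χ _ => hPQ χ, Finset.sum_add_distrib, hP, ← Finset.mul_sum] at htot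
    have hle : ∑ χ ∈ univ.filter (· ∉ E), ((n : ℤ) - 1) * ((mlt χ one : ℤ) - mlt χ l₀) ^ 2 ≤
        ∑ χ, ∑ c ∈ nt, ((mlt χ one : ℤ) - mlt χ c) ^ 2 := by
      refine le_trans (le_of_eq (Finset.sum_congr rfl fun χ hχ => ?_))
        (Finset.sum_le_sum_of_subset_of_nonneg (Finset.subset_univ _)
          fun χ _ _ => Finset.sum_nonneg fun c _ => sq_nonneg _)
      rw [Finset.sum_congr rfl fun l hl' => by
          rw [hin χ (Finset.mem_filter.1 hχ).2 l (Finset.mem_filter.1 hl').2],
        Finset.sum_const, hntc, nsmul_eq_mul, Nat.cast_sub (by omega)]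
      simp
    rw [← Finset.mul_sum] at hle
    have h18 : (18 : ℤ) < n := by exact_mod_cast hn
    nlinarith [hle, htot, h18]
  · -- the bound on the common sum
    have hcardE : n - 1 ≤ 6 * E.card := by
      have hfib : ∀ c ∈ univ.image b, (univ.filter fun a : Mt => b a = c).card ≤ 6 := by
        intro c hc
        obtain ⟨a, -, rfl⟩ := Finset.mem_image.1 hc
        rw [← horb a.1 a.2.1]
        refine Finset.card_le_card_of_injOn Subtype.val (fun a' ha' => ?_) (fun x _ y _ e => Subtype.ext e)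
        have ha'' := (Finset.mem_filter.1 ha').2
        refine Finset.mem_filter.2 ⟨Finset.mem_univ _, ?_⟩
        by_contra hne
        refine hdiff a' a hne (funext fun χ => ?_)
        by_cases hχ : χ = o
        · rw [hχ, hso, hso]
        by_cases hχ' : χ = b a
        · rw [hχ', hsb]; nth_rw 1 [← ha'']; rw [hsb]
        rw [hzero a χ hχ hχ', hzero a' χ hχ (ha''.symm ▸ hχ')]
      have h1 := Finset.card_le_mul_card_image (univ : Finset Mt) 6 hfib
      have hM : (univ : Finset Mt).card + 6 = n - 1 := by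
        rw [Finset.card_univ, Fintype.card_subtype]
        have hc6 := Finset.card_filter_add_card_filter_not (s := nt) (fun l => R l l₀)
        rw [hntc] at hc6
        have hf : nt.filter (fun l => R l l₀) = univ.filter fun l => R l l₀ := by
          ext c
          simp only [hnt, Finset.mem_filter, Finset.mem_univ, true_and]
          exact ⟨fun h' => h'.2, fun h' => ⟨hne1 _ _ hl₀ h', h'⟩⟩
        rw [hf, horb _ hl₀, hnt, Finset.filter_filter] at hc6
        omega
      have ho : o ∉ univ.image b := fun ho => by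
        obtain ⟨a, -, e⟩ := Finset.mem_image.1 ho
        exact hbo a e
      rw [hE, Finset.card_insert_of_notMem ho]
      omega
    have hsum := tsum_sq h
    have hEsum : (E.card : ℤ) * tsum T n o ^ 2 ≤ 6 * (n : ℤ) * (n - 1) := by
      rw [← hsum]
      refine le_trans (le_of_eq ?_) (Finset.sum_le_sum_of_subset_of_nonneg (Finset.subset_univ E)
        fun χ _ _ => sq_nonneg _)
      rw [Finset.sum_congr rfl fun χ hχ => ?_, Finset.sum_const, nsmul_eq_mul]
      rcases Finset.mem_insert.1 hχ with rfl | hχ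
      · rfl
      · obtain ⟨a, -, rfl⟩ := Finset.mem_image.1 hχ
        rw [hS]
    have hc : (n : ℤ) - 1 ≤ 6 * E.card := by omega
    have h18 : (18 : ℤ) < n := by exact_mod_cast hn
    nlinarith [hEsum, hc, sq_nonneg (tsum T n o)]
  · -- the pattern of the centre of the star
    have hml : ∀ l ∈ nt, (mlt o l : ℤ) = if R l l₀ then (mlt o l₀ : ℤ) else mlt o l₀ + s := by
      intro l hl'
      have hl'' := (Finset.mem_filter.1 hl').2
      split_ifs with hR'
      · have e := mult_pair h l l₀ l l₀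
        rw [hl _ _ hl'', hl _ _ hl'', hl _ _ hl₀, hl _ _ hl₀, if_pos (hrefl _ hl''),
          if_pos (hsymm _ _ hl'' hl₀ hR'), if_pos hR', if_pos (hrefl _ hl₀)] at e
        have e' := (mul_eq_zero.1 (e.trans (by ring))).resolve_left hn0
        have := (Finset.sum_eq_zero_iff_of_nonneg (fun i _ => mul_self_nonneg _)).1 e' o (Finset.mem_univ _)
        have := mul_self_eq_zero.1 this
        omega
      · have : (mlt o l : ℤ) - mlt o l₀ = s := hso ⟨l, hl'', hR'⟩
        omega
    have hc6 := Finset.card_filter_add_card_filter_not (s := nt) (fun l => R l l₀)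
    rw [hntc] at hc6
    have hf : nt.filter (fun l => R l l₀) = univ.filter fun l => R l l₀ := by
      ext c
      simp only [hnt, Finset.mem_filter, Finset.mem_univ, true_and]
      exact ⟨fun h' => h'.2, fun h' => ⟨hne1 _ _ hl₀ h', h'⟩⟩
    have hsum : ∑ l ∈ nt, (mlt o l : ℤ) = ((n : ℤ) - 1) * (mlt o l₀ + s) - 6 * s := by
      rw [Finset.sum_congr rfl hml, Finset.sum_ite, Finset.sum_const, Finset.sum_const, hf, horb _ hl₀]
      rw [hf, horb _ hl₀] at hc6
      have e : ((nt.filter fun l => ¬ R l l₀).card : ℤ) = (n : ℤ) - 7 := by omega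
      simp only [nsmul_eq_mul, e]
      push_cast
      ring
    refine ⟨mlt o l₀ + s, (mlt o one : ℤ) - (mlt o l₀ + s), s, hs, ?_, ?_⟩
    · rw [hdeg, hsum]; ring
    · rw [tsum, ← hone]
      change (n : ℤ) * _ - deg o = _
      rw [hdeg, hsum]; ring

end CfsgLib.ThompsonRee
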