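import Cfsg.Agent.Lib.Chars.Char
import Cfsg.Agent.Lib.Chars.Degree
import Cfsg.Agent.Lib.CharApps.Basic

/-!
Characters on a self-centralising abelian trivial intersection subgroup of index six in its normaliser:
all but few are constant away from the identity.
-/

set_option autoImplicit false
set_option linter.style.haveILetI false

namespace CfsgLib.ThompsonRee

open Cfsg CfsgLib.Chars Finset
open scoped ComplexConjugate

universe u

/-- an abelian trivial intersection subgroup of index six in its normaliser -/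
structure TI {G : Type u} [Group G] (T : Subgroup G) (n : ℕ) : Prop where
  comm : ∀ a ∈ T, ∀ b ∈ T, a * b = b * a
  card : Nat.card T = n
  big : 18 < n
  cent : ∀ t ∈ T, t ≠ 1 → ∀ g : G, g * t = t * g → g ∈ T
  ti : ∀ g t : G, t ∈ T → t ≠ 1 → g * t * g⁻¹ ∈ T → g ∈ Subgroup.normalizer (T : Set G)
  norm : Nat.card (Subgroup.normalizer (T : Set G)) = 6 * n

variable {G : Type u} [Group G]

/-- conjugation on the subgroup -/
def act {T : Subgroup G} (g : Subgroup.normalizer (T : Set G)) : T →* T where
  toFun t := ⟨(g : G) * t * (g : G)⁻¹, (Subgroup.mem_normalizer_iff.1 g.2 t).1 t.2⟩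
  map_one' := Subtype.ext (by simp)
  map_mul' a b := Subtype.ext (by simp [mul_assoc])

theorem act_mul {T : Subgroup G} (g h : Subgroup.normalizer (T : Set G)) (t : T) :
    act (g * h) t = act g (act h t) := Subtype.ext (by simp [act, mul_assoc])

theorem act_one {T : Subgroup G} (t : T) : act (1 : Subgroup.normalizer (T : Set G)) t = t :=
  Subtype.ext (by simp [act])

theorem act_surj {T : Subgroup G} (g : Subgroup.normalizer (T : Set G)) : Function.Surjective (act g) :=
  fun t => ⟨act g⁻¹ t, by rw [← act_mul, mul_inv_cancel, act_one]⟩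

theorem column [Finite G] [Fintype (IrrCharacter G)] (g g' : G) :
    ∑ χ : IrrCharacter G, (χ : G → ℂ) g * conj ((χ : G → ℂ) g') =
      (Nat.card {x : G // x * g * x⁻¹ = g'} : ℂ) := by
  classical
  rw [second_orthogonality]
  split_ifs with h
  · obtain ⟨y, hy⟩ := isConj_iff.1 h.symm
    refine congrArg Nat.cast (Nat.card_congr (Equiv.subtypeEquiv (Equiv.mulLeft y) fun x => ?_))
    rw [Subgroup.mem_centralizer_singleton_iff, Equiv.coe_mulLeft,
      show y * x * g * (y * x)⁻¹ = y * (x * g * x⁻¹) * y⁻¹ by group, ← hy, mul_left_inj,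
      mul_right_inj, mul_inv_eq_iff_eq_mul]
  · haveI : IsEmpty {x : G // x * g * x⁻¹ = g'} :=
      ⟨fun x => h (isConj_iff.2 ⟨x.1, x.2⟩).symm⟩
    rw [Nat.card_of_isEmpty, Nat.cast_zero]

section Linear

variable {T : Subgroup G} [Fintype T] [Fintype (IrrCharacter T)]

/-- the multiplicity of a character of the subgroup -/
noncomputable def mlt (χ : IrrCharacter G) (l : IrrCharacter T) : ℕ :=
  (inner_irr_right_nat (isCharacter_restrict T (isCharacter_of_irr χ.2)) l).choose

omit [Fintype (IrrCharacter T)] in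
theorem mlt_spec (χ : IrrCharacter G) (l : IrrCharacter T) :
    classInner (fun t : T => (χ : G → ℂ) t) l = mlt χ l :=
  (inner_irr_right_nat (isCharacter_restrict T (isCharacter_of_irr χ.2)) l).choose_spec

omit [Fintype (IrrCharacter T)] in
theorem sum_mul_lin (χ : IrrCharacter G) (l : IrrCharacter T) :
    ∑ t : T, (χ : G → ℂ) t * conj ((l : T → ℂ) t) = (Nat.card T : ℂ) * mlt χ l := by
  rw [← mlt_spec, inner_def, ← mul_assoc, mul_inv_cancel₀ (card_ne_zero T), one_mul]

variable (hc : ∀ a ∈ T, ∀ b ∈ T, a * b = b * a)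
include hc

theorem lin_one (l : IrrCharacter T) : (l : T → ℂ) 1 = 1 :=
  irr_abelian_degree (fun a b => Subtype.ext (hc a a.2 b b.2)) l.2

theorem lin_mul (l : IrrCharacter T) (a b : T) :
    (l : T → ℂ) (a * b) = (l : T → ℂ) a * (l : T → ℂ) b := by
  obtain ⟨f, hf⟩ := exists_hom_of_degree_one (isCharacter_of_irr l.2) (lin_one hc l)
  simp only [hf, map_mul, Units.val_mul]

theorem sum_lin (t : T) (ht : t ≠ 1) : ∑ l : IrrCharacter T, (l : T → ℂ) t = 0 := by
  classical
  have h := second_orthogonality t (1 : T)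
  rw [if_neg (fun h => ht (isConj_one_right.1 h))] at h
  simpa [lin_one hc] using h

theorem card_lin : Fintype.card (IrrCharacter T) = Nat.card T := by
  have h := sum_degree_sq (G := T)
  simp [lin_one hc] at h
  rw [Nat.card_eq_fintype_card]
  exact_mod_cast h

theorem res_eq (χ : IrrCharacter G) (t : T) :
    (χ : G → ℂ) t = ∑ l : IrrCharacter T, (mlt χ l : ℂ) * (l : T → ℂ) t := by
  have h := congrFun (classFun_eq_sum (G := T)
    (isClassFunction_of_isCharacter (isCharacter_restrict T (isCharacter_of_irr χ.2)))) t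
  simpa [Finset.sum_apply, mlt_spec] using h

theorem deg_sum (χ : IrrCharacter G) :
    (charDegree (χ : G → ℂ) : ℤ) = ∑ l : IrrCharacter T, (mlt χ l : ℤ) := by
  have h := res_eq hc χ 1
  simp only [Subgroup.coe_one, lin_one hc, mul_one] at h
  rw [CharApps.deg_eq] at h
  exact_mod_cast h

theorem sum_norm_sq (χ : IrrCharacter G) :
    ∑ t : T, (χ : G → ℂ) t * conj ((χ : G → ℂ) t) =
      (Nat.card T : ℂ) * ∑ l : IrrCharacter T, (mlt χ l : ℂ) ^ 2 := by
  calc _ = ∑ t : T, ∑ l : IrrCharacter T, (mlt χ l : ℂ) * ((χ : G → ℂ) t * conj ((l : T → ℂ) t)) := by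
        refine Finset.sum_congr rfl fun t _ => ?_
        conv_lhs => rw [res_eq hc χ t, map_sum, Finset.mul_sum]
        refine Finset.sum_congr rfl fun l _ => ?_
        rw [map_mul, map_natCast, ← res_eq hc χ t]
        ring
    _ = _ := by
      rw [Finset.sum_comm, Finset.mul_sum]
      refine Finset.sum_congr rfl fun l _ => ?_
      rw [← Finset.mul_sum, sum_mul_lin]
      ring

end Linear

variable [Fintype G] [Fintype (IrrCharacter G)] {T : Subgroup G} [Fintype T] [Fintype (IrrCharacter T)]
variable {n : ℕ} (h : TI T n) [Fintype (Subgroup.normalizer ((T : Subgroup G) : Set G))]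

local notation "N" => Subgroup.normalizer ((T : Subgroup G) : Set G)

/-- the conjugate of a linear character -/
noncomputable def twist (g : N) (l : IrrCharacter T) : IrrCharacter T :=
  ⟨fun t => (l : T → ℂ) (act g t), isIrrCharacter_comp (act g) (act_surj g) l.2⟩

/-- the elements carrying one linear character to another -/
noncomputable def lnk (l r : IrrCharacter T) : ℕ := Nat.card {g : N // twist g r = l}

omit [Fintype G] [Fintype (IrrCharacter G)] [Fintype T] [Fintype (IrrCharacter T)] [Fintype (Subgroup.normalizer ((T : Subgroup G) : Set G))] in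
theorem twist_twist (g k : N) (l : IrrCharacter T) : twist g (twist k l) = twist (k * g) l :=
  Subtype.ext (funext fun t => congrArg (l : T → ℂ) (act_mul k g t).symm)

omit [Fintype G] [Fintype (IrrCharacter G)] [Fintype T] [Fintype (IrrCharacter T)] [Fintype (Subgroup.normalizer ((T : Subgroup G) : Set G))] in
theorem twist_one (l : IrrCharacter T) : twist (1 : N) l = l :=
  Subtype.ext (funext fun t => congrArg (l : T → ℂ) (act_one t))

include h

theorem pair (D F : T → ℂ) (hD : D 1 = 0) :
    ∑ χ : IrrCharacter G, (∑ t : T, D t * (χ : G → ℂ) t) * conj (∑ u : T, F u * (χ : G → ℂ) u) =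
      ∑ g : N, ∑ t : T, D t * conj (F (act g t)) := by
  classical
  have hcol : ∀ t u : T, t ≠ 1 → (Nat.card {x : G // x * t * x⁻¹ = u} : ℂ) =
      ∑ g : N, if act g t = u then (1 : ℂ) else 0 := fun t u ht => by
    rw [Finset.sum_boole, ← Fintype.card_subtype, ← Nat.card_eq_fintype_card]
    refine congrArg Nat.cast (Nat.card_congr
      { toFun := fun x => ⟨⟨x.1, h.ti x.1 t t.2 (fun e => ht (Subtype.ext e)) (by rw [x.2]; exact u.2)⟩, Subtype.ext x.2⟩
        invFun := fun g => ⟨(g.1 : G), congrArg Subtype.val g.2⟩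
        left_inv := fun _ => rfl
        right_inv := fun _ => rfl })
  calc _ = ∑ t : T, ∑ u : T, D t * conj (F u) *
        (∑ χ : IrrCharacter G, (χ : G → ℂ) t * conj ((χ : G → ℂ) u)) := by
        simp only [map_sum, Finset.sum_mul_sum]
        simp only [map_mul, Finset.mul_sum]
        rw [Finset.sum_comm]
        refine Finset.sum_congr rfl fun t _ => ?_
        rw [Finset.sum_comm]
        exact Finset.sum_congr rfl fun u _ => Finset.sum_congr rfl fun χ _ => by ring
    _ = ∑ t : T, ∑ g : N, D t * conj (F (act g t)) := by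
      refine Finset.sum_congr rfl fun t _ => ?_
      by_cases ht : t = 1
      · subst ht; simp [hD]
      · simp only [column, hcol t _ ht, Finset.mul_sum]
        rw [Finset.sum_comm]
        exact Finset.sum_congr rfl fun g _ => by simp
    _ = _ := Finset.sum_comm

theorem mult_pair (l l' r r' : IrrCharacter T) :
    (n : ℤ) * ∑ χ : IrrCharacter G, ((mlt χ l : ℤ) - mlt χ l') * ((mlt χ r : ℤ) - mlt χ r') =
      (lnk l r : ℤ) - lnk l' r - lnk l r' + lnk l' r' := by
  classical
  let D : T → ℂ := fun t => conj ((l : T → ℂ) t) - conj ((l' : T → ℂ) t)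
  let F : T → ℂ := fun t => conj ((r : T → ℂ) t) - conj ((r' : T → ℂ) t)
  have hsum : ∀ (χ : IrrCharacter G) (a b : IrrCharacter T),
      ∑ t : T, (conj ((a : T → ℂ) t) - conj ((b : T → ℂ) t)) * (χ : G → ℂ) t =
        (n : ℂ) * ((mlt χ a : ℂ) - mlt χ b) := fun χ a b => by
    rw [mul_sub, ← h.card, ← sum_mul_lin, ← sum_mul_lin, ← Finset.sum_sub_distrib]
    exact Finset.sum_congr rfl fun t _ => by ring
  have hor : ∀ (g : N) (a b : IrrCharacter T),
      ∑ t : T, conj ((a : T → ℂ) t) * (b : T → ℂ) (act g t) = if twist g b = a then (n : ℂ) else 0 := by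
    intro g a b
    have := inner_irr (twist g b) a
    rw [inner_def, inv_mul_eq_iff_eq_mul₀ (card_ne_zero T), h.card] at this
    rw [show ∑ t : T, conj ((a : T → ℂ) t) * (b : T → ℂ) (act g t) =
      ∑ t : T, ((twist g b : IrrCharacter T) : T → ℂ) t * conj ((a : T → ℂ) t) from
        Finset.sum_congr rfl fun t _ => mul_comm _ _, this, mul_ite, mul_one, mul_zero]
  have hp := pair h D F (by simp [D, lin_one h.comm])
  simp only [D, F, hsum] at hp
  have hN : (n : ℂ) ≠ 0 := Nat.cast_ne_zero.2 (by have := h.big; omega)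
  have key : ((n : ℂ) * ∑ χ : IrrCharacter G, ((mlt χ l : ℂ) - mlt χ l') * ((mlt χ r : ℂ) - mlt χ r')) * n =
      ((lnk l r : ℂ) - lnk l' r - lnk l r' + lnk l' r') * n := by
    calc _ = ∑ χ : IrrCharacter G, (n : ℂ) * ((mlt χ l : ℂ) - mlt χ l') *
          conj ((n : ℂ) * ((mlt χ r : ℂ) - mlt χ r')) := by
          rw [Finset.mul_sum, Finset.sum_mul]
          exact Finset.sum_congr rfl fun χ _ => by simp only [map_mul, map_sub, map_natCast]; ring
      _ = _ := by
        rw [hp]
        have hc : ∀ a b : IrrCharacter T, (lnk a b : ℂ) * n = ∑ g : N, if twist g b = a then (n : ℂ) else 0 := by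
          intro a b
          rw [lnk, Nat.card_eq_fintype_card, Fintype.card_subtype, ← Finset.sum_filter, Finset.sum_const,
            nsmul_eq_mul]
        rw [add_mul, sub_mul, sub_mul, hc, hc, hc, hc, ← Finset.sum_sub_distrib, ← Finset.sum_sub_distrib,
          ← Finset.sum_add_distrib]
        refine Finset.sum_congr rfl fun g _ => ?_
        simp only [← hor, map_sub, Complex.conj_conj]
        simp only [← Finset.sum_sub_distrib, ← Finset.sum_add_distrib]
        exact Finset.sum_congr rfl fun t _ => by ring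
  have e := mul_right_cancel₀ hN key
  exact_mod_cast e

omit [Fintype (IrrCharacter G)] in
theorem stab {g : N} {l : IrrCharacter T} (hl : l ≠ CharApps.oneIrr T) (hg : twist g l = l) :
    (g : G) ∈ T := by
  by_contra hgT
  refine hl (Subtype.ext (funext fun s => ?_))
  let f : T → T := fun t => t⁻¹ * act g t
  have hf : Function.Injective f := fun a b e => by
    have hc : ∀ a b : T, a * b = b * a := fun a b => Subtype.ext (h.comm a a.2 b b.2)
    have e' : act g (a * b⁻¹) = a * b⁻¹ := by
      rw [map_mul, map_inv, mul_inv_eq_iff_eq_mul,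
        show act g a = a * f a by simp [f], show act g b = b * f b by simp [f], e]
      rw [mul_assoc a b⁻¹, inv_mul_cancel_left]
    by_contra hab
    exact hgT (h.cent _ (a * b⁻¹).2 (fun e'' => hab (mul_inv_eq_one.1 (Subtype.ext e''))) g
      (mul_inv_eq_iff_eq_mul.1 (congrArg Subtype.val e')))
  obtain ⟨t, rfl⟩ := Finite.injective_iff_surjective.1 hf s
  have e : (l : T → ℂ) (act g t) = (l : T → ℂ) t := congrFun (congrArg Subtype.val hg) t
  rw [CharApps.oneIrr_apply, show f t = t⁻¹ * act g t from rfl, lin_mul h.comm, e, ← lin_mul h.comm,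
    inv_mul_cancel, lin_one h.comm]

omit [Fintype (IrrCharacter G)] in
theorem twist_of_mem {g : N} (hg : (g : G) ∈ T) (l : IrrCharacter T) : twist g l = l :=
  Subtype.ext (funext fun t => congrArg (l : T → ℂ) (Subtype.ext
    (by show (g : G) * t * (g : G)⁻¹ = t; rw [h.comm _ hg _ t.2, mul_inv_cancel_right])))

omit [Fintype (IrrCharacter G)] in
theorem lnk_cases {l r : IrrCharacter T} (hr : r ≠ CharApps.oneIrr T) : lnk l r = 0 ∨ lnk l r = n := by
  rcases isEmpty_or_nonempty {g : N // twist g r = l} with he | ⟨⟨g₀, hg₀⟩⟩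
  · exact Or.inl Nat.card_of_isEmpty
  · right
    rw [← h.card]
    refine Nat.card_congr
      { toFun := fun g => ⟨((g.1 * g₀⁻¹ : N) : G), stab h hr ?_⟩
        invFun := fun t => ⟨⟨(t : G), Subgroup.le_normalizer t.2⟩ * g₀, ?_⟩
        left_inv := fun g => Subtype.ext (Subtype.ext (by simp))
        right_inv := fun t => Subtype.ext (by simp) }
    · rw [← twist_twist, g.2, ← hg₀, twist_twist, mul_inv_cancel, twist_one]
    · rw [← twist_twist, twist_of_mem h (g := ⟨(t : G), Subgroup.le_normalizer t.2⟩) t.2 r, hg₀]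

omit [Fintype (IrrCharacter G)] in
theorem lnk_iff {l r : IrrCharacter T} (hr : r ≠ CharApps.oneIrr T) :
    lnk l r = n ↔ ∃ g : N, twist g r = l := by
  refine ⟨fun e => ?_, fun ⟨g, hg⟩ => (lnk_cases h hr).resolve_left ?_⟩
  · obtain ⟨⟨g, hg⟩⟩ := (Nat.card_pos_iff.1 (show 0 < lnk l r by have := h.big; omega)).1
    exact ⟨g, hg⟩
  · haveI : Nonempty {g : N // twist g r = l} := ⟨⟨g, hg⟩⟩
    exact Nat.card_pos.ne'

omit [Fintype (IrrCharacter G)] in
theorem lnk_sum (r : IrrCharacter T) : ∑ l : IrrCharacter T, lnk l r = 6 * n := by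
  classical
  simp only [lnk]
  rw [← Nat.card_sigma, Nat.card_congr (Equiv.sigmaFiberEquiv fun g : N => twist g r), h.norm]

end CfsgLib.ThompsonRee
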