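import Cfsg.Agent.Lib.Chev.Ree.Results
import Cfsg.Agent.Lib.KnownB.ThompsonRee.Torus

/-!
The tori of a system of small Ree type, with involutions inverting them.
-/

set_option autoImplicit false

namespace CfsgLib.ThompsonRee

open CfsgLib.Chev.Ree

variable {G : Type*} [Group G] {m : ℕ}

/-- an involution inverting a subgroup -/
structure Inverts (b : G) (T : Subgroup G) : Prop where
  sq : b * b = 1
  ne : b ≠ 1
  notMem : b ∉ T
  inv : ∀ t ∈ T, b * t * b⁻¹ = t⁻¹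

/-- a subgroup of index two -/
theorem out_of_two {T C : Subgroup G} [Finite G] (hle : T ≤ C) (hc : Nat.card C = 2 * Nat.card T) :
    ∃ b ∈ C, b ∉ T ∧ b * b ∈ T ∧ ∀ t ∈ T, b * t * b⁻¹ ∈ T := by
  have hidx : (T.subgroupOf C).index = 2 := by
    have := (T.subgroupOf C).card_mul_index
    rw [Nat.card_congr (Subgroup.subgroupOfEquivOfLe hle).toEquiv, hc, mul_comm 2] at this
    exact Nat.eq_of_mul_eq_mul_left Nat.card_pos this
  haveI := Subgroup.normal_of_index_eq_two hidx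
  obtain ⟨b, hb, hbT⟩ : ∃ b ∈ C, b ∉ T := by
    by_contra hno
    push Not at hno
    have : Nat.card C ≤ Nat.card T := Subgroup.card_le_of_le hno
    have := Nat.card_pos (α := T)
    omega
  refine ⟨b, hb, hbT, ?_, fun t ht => ?_⟩
  · exact Subgroup.mem_subgroupOf.1 (Subgroup.mul_self_mem_of_index_two hidx ⟨b, hb⟩)
  · exact Subgroup.mem_subgroupOf.1 (this.conj_mem ⟨t, hle ht⟩ (Subgroup.mem_subgroupOf.2 ht) ⟨b, hb⟩)

variable {S : Sys G m}

/-- an element outside, squaring into the torus and fixing its involutions, inverts it -/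
theorem inverts {T : Subgroup G} {k : ℕ} (hT : Tor S T k) {b : G} (hb : b ∉ T) (hb2 : b * b ∈ T)
    (hn : ∀ t ∈ T, b * t * b⁻¹ ∈ T) (he : ∀ e ∈ T, e * e = 1 → b * e * b⁻¹ = e) : Inverts b T := by
  haveI := S.finite
  have hbb : b * b = 1 := by
    refine S.two_elt (k := 2) ?_
    by_contra h4
    have hs : b * b * (b * b) ≠ 1 := by
      intro e; apply h4; rw [← e]; simp [pow_succ, mul_assoc]
    apply hb
    rw [← hT.cent _ hb2 hs, mem_Cn, mul_assoc]
  have hbi : b⁻¹ = b := inv_eq_of_mul_eq_one_right hbb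
  have hu : ∀ t ∈ T, t * (b * t * b⁻¹) * (t * (b * t * b⁻¹)) = 1 := by
    intro t ht
    by_contra hne
    apply hb
    rw [← hT.cent _ (mul_mem ht (hn t ht)) hne, mem_Cn]
    calc b * (t * (b * t * b⁻¹)) = b * t * b⁻¹ * (b * b) * t * b⁻¹ := by group
      _ = b * t * b⁻¹ * t * b := by rw [hbb, hbi]; group
      _ = t * (b * t * b⁻¹) * b := by rw [hT.mul_comm' (hn t ht) ht]
  refine ⟨hbb, fun e => hb (e ▸ one_mem T), hb, fun t ht => eq_inv_of_mul_eq_one_right ?_⟩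
  -- squares are inverted
  have hsq : ∀ s ∈ T, s * s * (b * (s * s) * b⁻¹) = 1 := by
    intro s hs
    rw [← hu s hs]
    calc s * s * (b * (s * s) * b⁻¹) = s * (s * (b * s * b⁻¹)) * (b * s * b⁻¹) := by group
      _ = s * ((b * s * b⁻¹) * s) * (b * s * b⁻¹) := by rw [hT.mul_comm' hs (hn s hs)]
      _ = _ := by group
  have hpos := orderOf_pos t
  obtain ⟨i, e, hi, hee⟩ : ∃ i e, e ∈ T ∧ e * e = 1 ∧ t = t ^ i * t ^ i * e := by
    rcases Nat.even_or_odd (orderOf t) with ⟨j, hj⟩ | ⟨j, hj⟩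
    · have hodd : j % 2 = 1 := by
        by_contra h2
        exact S.not_four t ⟨j / 2, by omega⟩
      refine ⟨(j + 1) / 2, t ^ j, pow_mem ht j, by rw [← pow_add, ← hj, pow_orderOf_eq_one], ?_⟩
      rw [← pow_add, ← pow_add, show (j + 1) / 2 + (j + 1) / 2 + j = orderOf t + 1 by omega, pow_succ,
        pow_orderOf_eq_one, one_mul]
    · refine ⟨j + 1, 1, one_mem T, mul_one 1, ?_⟩
      rw [← pow_add, mul_one, show j + 1 + (j + 1) = orderOf t + 1 by omega, pow_succ, pow_orderOf_eq_one,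
        one_mul]
  obtain ⟨hee, hte⟩ := hee
  have hs := pow_mem ht i
  set s := t ^ i
  calc t * (b * t * b⁻¹) = s * s * e * (b * (s * s * e) * b⁻¹) := by rw [← hte]
    _ = s * s * (e * (b * (s * s) * b⁻¹)) * (b * e * b⁻¹) := by group
    _ = s * s * (b * (s * s) * b⁻¹ * e) * (b * e * b⁻¹) := by rw [hT.mul_comm' hi (hn _ (mul_mem hs hs))]
    _ = s * s * (b * (s * s) * b⁻¹) * (e * (b * e * b⁻¹)) := by group
    _ = 1 := by rw [hsq s hs, he e hi hee, hee, one_mul]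

/-- an odd torus is inverted -/
theorem inverts_odd {T : Subgroup G} {k : ℕ} (hT : Tor S T k) (ho : Odd k)
    (hN : Nat.card (Subgroup.normalizer (T : Set G)) = 6 * k) : ∃ b, Inverts b T := by
  haveI := S.finite
  haveI : Fact (Nat.Prime 2) := ⟨Nat.prime_two⟩
  obtain ⟨⟨b, hb⟩, hbo⟩ := exists_prime_orderOf_dvd_card' (G := Subgroup.normalizer (T : Set G)) 2
    (hN ▸ Dvd.intro (3 * k) (by ring))
  rw [Subgroup.orderOf_mk] at hbo
  have hbT : b ∉ T := fun h => by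
    have := hT.order_dvd h
    rw [hbo] at this
    rw [Nat.odd_iff] at ho
    omega
  refine ⟨b, inverts hT hbT ?_ (fun t ht => (Subgroup.mem_normalizer_iff.1 hb t).1 ht) fun e he hee => ?_⟩
  · rw [← sq, ← hbo, pow_orderOf_eq_one]; exact one_mem T
  · have h1 : orderOf e ∣ 1 := (Nat.coprime_two_left.2 ho).gcd_eq_one ▸
      Nat.dvd_gcd (orderOf_dvd_of_pow_eq_one (by rw [sq, hee])) (hT.order_dvd he)
    rw [orderOf_eq_one_iff.1 (Nat.dvd_one.1 h1)]; group

theorem inverts_H (S : Sys G m) : ∃ b, Inverts b S.H := by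
  haveI := S.finite
  obtain ⟨b, hbN, hbH, hbb, hn⟩ := out_of_two (T := S.H) (C := Subgroup.normalizer (S.H : Set G))
    Subgroup.le_normalizer (by rw [S.hNorm, S.cardH])
  refine ⟨b, inverts S.torH hbH hbb hn fun e he hee => ?_⟩
  have h2 := (S.torH.split S.split_H.1 S.split_H.2.1).2
  rw [pow_one] at h2
  by_cases h1 : e = 1
  · subst h1; group
  by_contra hne
  have : 3 ≤ Nat.card {x : S.H // x * x = 1} := by
    have he' : b * e * b⁻¹ * (b * e * b⁻¹) = 1 := by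
      rw [show b * e * b⁻¹ * (b * e * b⁻¹) = b * (e * e) * b⁻¹ by group, hee]; group
    let f : Fin 3 → {x : S.H // x * x = 1} :=
      ![⟨1, mul_one 1⟩, ⟨⟨e, he⟩, Subtype.ext hee⟩, ⟨⟨_, hn e he⟩, Subtype.ext he'⟩]
    refine le_trans (by simp) (Nat.card_le_card_of_injective f ?_)
    have hb1 : b * e * b⁻¹ ≠ 1 := fun hh => h1 (conj_eq_one_iff.1 hh)
    intro i j hij
    fin_cases i <;> fin_cases j <;>
      simp [f, Subtype.ext_iff, h1, hb1, hne, eq_comm (a := (1 : G)), eq_comm (a := e)] at hij ⊢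
  omega

theorem inverts_T0 (S : Sys G m) : ∃ b, Inverts b S.T0 := by
  haveI := S.finite
  have hle : S.T0 ≤ Subgroup.centralizer (S.V0 : Set G) := fun x hx =>
    Subgroup.mem_centralizer_iff.2 fun v hv => S.torS.mul_comm' hv.1 hx
  obtain ⟨b, hbC, hbT, hbb, hn⟩ := out_of_two hle (by rw [S.card_cent_V0, S.torS.card])
  refine ⟨b, inverts S.torS hbT hbb hn fun e he hee => ?_⟩
  rw [mul_inv_eq_iff_eq_mul]
  exact (Subgroup.mem_centralizer_iff.1 hbC e ⟨he, hee⟩).symm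

/-- every element of order above two prime to three lies in an inverted torus -/
theorem tori (S : Sys G m) :
    ∃ (T₂ : Subgroup G) (b₂ : G), Tor S T₂ (qq m + rr m + 1) ∧ TI T₂ (qq m + rr m + 1) ∧ Inverts b₂ T₂ ∧
      ∀ x : G, 2 < orderOf x → ¬ 3 ∣ orderOf x → ∃ (T : Subgroup G) (k : ℕ) (b c : G), Tor S T k ∧
        Inverts b T ∧ c⁻¹ * x * c ∈ T ∧ (k ≤ qq m + 1 ∨ T = T₂ ∧ k = qq m + rr m + 1) := by
  haveI := S.finite
  obtain ⟨-, -, T₁, T₂, hT₁, hT₂, hn₁, hn₂, hcov⟩ := S.main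
  obtain ⟨⟨o₁, -⟩, ⟨o₂, -⟩⟩ := S.split_T
  obtain ⟨b₂, hb₂⟩ := inverts_odd hT₂ o₂ hn₂
  have hz : ∀ z ∈ T₂, z ≠ 1 → z * z ≠ 1 := fun z hz h1 h2 => by
    have h' : orderOf z ∣ 1 := (Nat.coprime_two_left.2 o₂).gcd_eq_one ▸
      Nat.dvd_gcd (orderOf_dvd_of_pow_eq_one (by rw [sq, h2])) (hT₂.order_dvd hz)
    exact h1 (orderOf_eq_one_iff.1 (Nat.dvd_one.1 h'))
  refine ⟨T₂, b₂, hT₂, ⟨fun a ha b hb => hT₂.mul_comm' ha hb, hT₂.card, ?_, fun t ht h1 g hg => ?_,
    fun g t ht h1 hg => hT₂.mem_norm ht (hz t ht h1) hg, hn₂⟩, hb₂, fun x h2 h3 => ?_⟩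
  · have := q_ge S.hm
    omega
  · rw [← hT₂.cent t ht (hz t ht h1), mem_Cn]; exact hg
  · rcases S.classify h2 h3 with h | h | h
    · obtain ⟨b, hb⟩ := inverts_H S
      obtain ⟨c, hc⟩ := S.torH.cover' h2 h
      exact ⟨_, _, b, c, S.torH, hb, hc, Or.inl (by omega)⟩
    · obtain ⟨b, hb⟩ := inverts_T0 S
      obtain ⟨c, hc⟩ := S.torS.cover' h2 h
      exact ⟨_, _, b, c, S.torS, hb, hc, Or.inl le_rfl⟩
    · rcases hcov x h2 h with ⟨c, hc⟩ | ⟨c, hc⟩
      · obtain ⟨b, hb⟩ := inverts_odd hT₁ o₁ hn₁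
        have := r_lt S.hm
        exact ⟨_, _, b, c, hT₁, hb, hc, Or.inl (by omega)⟩
      · exact ⟨_, _, b₂, c, hT₂, hb₂, hc, Or.inr ⟨rfl, rfl⟩⟩

/-- the centraliser of an element of a torus -/
theorem card_cent {T : Subgroup G} {k : ℕ} (hT : Tor S T k) {x : G} (hx : x ∈ T) (h2 : 2 < orderOf x) :
    Nat.card (Subgroup.centralizer {x}) = k := by
  rw [show Subgroup.centralizer {x} = T from hT.cent x hx (sq_ne_of_order h2), hT.card]

end CfsgLib.ThompsonRee
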