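import Cfsg.Agent.Lib.KnownB.ThompsonRee.Fval
import Cfsg.Agent.Lib.KnownB.ThompsonRee.Tori
import Cfsg.Agent.Lib.KnownB.ThompsonRee.Star
import Cfsg.Agent.Lib.Chars.Integral

/-!
The involutions lie in the square: average over a dihedral subgroup on the largest torus.
-/

set_option autoImplicit false
set_option linter.style.haveILetI false

namespace CfsgLib.ThompsonRee

open Cfsg CfsgLib.Chars CfsgLib.Chev.Ree Finset

universe u

variable {G : Type u} [Group G]

/-- a subgroup together with an involution inverting it -/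
def dih {T : Subgroup G} {b : G} (h : Inverts b T) : Subgroup G where
  carrier := {g | g ∈ T ∨ b * g ∈ T}
  one_mem' := Or.inl (one_mem T)
  mul_mem' := fun {x y} hx hy => by
    have hb : b⁻¹ = b := inv_eq_of_mul_eq_one_right h.sq
    have hsw : ∀ t ∈ T, b * t * b = t⁻¹ := fun t ht => by
      have := h.inv t ht
      rwa [hb] at this
    rcases hx with hx | hx <;> rcases hy with hy | hy
    · exact Or.inl (mul_mem hx hy)
    · right
      rw [show b * (x * y) = (b * x * b) * (b * y) by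
        simp only [mul_assoc]; rw [← mul_assoc b b, h.sq, one_mul], hsw x hx]
      exact mul_mem (inv_mem hx) hy
    · exact Or.inr (by rw [← mul_assoc]; exact mul_mem hx hy)
    · left
      rw [show x * y = (b * (b * x) * b) * (b * y) by
        simp only [mul_assoc]; rw [← mul_assoc b b, h.sq, one_mul, ← mul_assoc b b, h.sq, one_mul],
        hsw _ hx]
      exact mul_mem (inv_mem hx) hy
  inv_mem' := fun {x} hx => by
    rcases hx with hx | hx
    · exact Or.inl (inv_mem hx)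
    · right
      have hb : b⁻¹ = b := inv_eq_of_mul_eq_one_right h.sq
      have e := h.inv _ hx
      rw [hb] at e
      rw [show b * x⁻¹ = b * ((b * x)⁻¹ * b) by group, ← mul_assoc]
      have e3 := h.inv _ (inv_mem hx)
      rw [hb, inv_inv] at e3
      rw [e3]
      exact hx

theorem mem_dih {T : Subgroup G} {b : G} (h : Inverts b T) {g : G} : g ∈ dih h ↔ g ∈ T ∨ b * g ∈ T :=
  Iff.rfl

/-- the small residues do not divide the order -/
theorem no_small : ∀ M : Fin 79, ∀ j : Fin 32, 703 ≤ 37 * (M : ℕ) + j → 37 * (M : ℕ) + j < 2916 →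
    ((j : ℕ) = 6 ∨ (j : ℕ) = 7 ∨ (j : ℕ) = 30 ∨ (j : ℕ) = 31) → ¬ 37 * (M : ℕ) + j ∣ 10073444472 := by
  decide +kernel

variable [Fintype G] [Fintype (IrrCharacter G)]

/-- the average over the dihedral group -/
theorem dih_bound {T : Subgroup G} [Fintype T] [Fintype (IrrCharacter T)] {n : ℕ} (hcard : Nat.card T = n) {b a : G}
    (hb : Inverts b T) (hconj : ∀ i : G, i * i = 1 → i ≠ 1 → ∃ g, g * a * g⁻¹ = i) (x : G) :
    2 * (n : ℝ) ≤ (n : ℝ) * fv x a + ∑ χ : IrrCharacter G,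
      wt x χ * (((charDegree (χ : G → ℂ) : ℝ) + tsum T n χ) / (charDegree (χ : G → ℂ) : ℝ)) := by
  classical
  let f : T ⊕ T → dih hb := fun p => match p with
    | Sum.inl t => ⟨t, Or.inl t.2⟩
    | Sum.inr t => ⟨b * t, Or.inr (by rw [← mul_assoc, hb.sq, one_mul]; exact t.2)⟩
  have hf : Function.Bijective f := by
    refine ⟨?_, ?_⟩
    · rintro (t | t) (s | s) e <;> have e' := congrArg Subtype.val e <;> simp only [f] at e'
      · exact congrArg Sum.inl (Subtype.ext e')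
      · exact (hb.notMem (by rw [show b = (t : G) * (s : G)⁻¹ by rw [e']; group]; exact mul_mem t.2 (inv_mem s.2))).elim
      · exact (hb.notMem (by rw [show b = (s : G) * (t : G)⁻¹ by rw [← e']; group]; exact mul_mem s.2 (inv_mem t.2))).elim
      · exact congrArg Sum.inr (Subtype.ext (mul_left_cancel e'))
    · rintro ⟨g, hg | hg⟩
      · exact ⟨Sum.inl ⟨g, hg⟩, rfl⟩
      · exact ⟨Sum.inr ⟨b * g, hg⟩, Subtype.ext (show b * (b * g) = g by rw [← mul_assoc, hb.sq, one_mul])⟩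
  have hc : Nat.card (dih hb) = n + n := by
    rw [← Nat.card_congr (Equiv.ofBijective f hf), Nat.card_sum, hcard]
  have hge := sum_fv_ge x (dih hb)
  rw [hc, ← (Equiv.ofBijective f hf).sum_comp, Fintype.sum_sum_type] at hge
  have h2 : ∀ t : T, fv x (b * t) = fv x a := fun t => by
    have hb' : b⁻¹ = b := inv_eq_of_mul_eq_one_right hb.sq
    have e := hb.inv t t.2
    rw [hb'] at e
    obtain ⟨g, hg⟩ := hconj (b * t) (by rw [show b * (t : G) * (b * t) = b * t * b * t by group, e, inv_mul_cancel])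
      (fun e1 => hb.notMem (by rw [eq_inv_of_mul_eq_one_left e1]; exact inv_mem t.2))
    rw [← hg, fv_conj]
  have h1 : ∑ t : T, fv x t = ∑ χ : IrrCharacter G,
      wt x χ * (((charDegree (χ : G → ℂ) : ℝ) + tsum T n χ) / (charDegree (χ : G → ℂ) : ℝ)) := by
    simp only [fv]
    rw [Finset.sum_comm]
    refine Finset.sum_congr rfl fun χ _ => ?_
    rw [← Finset.sum_div, ← Finset.mul_sum, ← Complex.re_sum, mul_div_assoc]
    congr 2
    have e := sum_mul_lin χ (CharApps.oneIrr T)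
    simp only [CharApps.oneIrr_apply, map_one, mul_one, hcard] at e
    rw [e, tsum]
    push_cast
    simp
  simp only [Equiv.ofBijective_apply, f, h2, Finset.sum_const, Finset.card_univ, nsmul_eq_mul,
    ← Nat.card_eq_fintype_card, hcard, h1] at hge
  push_cast at hge
  linarith

/-- the involutions lie in the square -/
theorem fv_invol {m : ℕ} (S : Sys G m) {x : G} {T T₂ : Subgroup G} {k : ℕ} (hT : Tor S T k)
    (hT₂ : Tor S T₂ (qq m + rr m + 1)) (hTI : TI T₂ (qq m + rr m + 1)) {b₂ : G} (hb₂ : Inverts b₂ T₂)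
    (hx : x ∈ T) (h2 : 2 < orderOf x) (hcase : k ≤ qq m + 1 ∨ T = T₂ ∧ k = qq m + rr m + 1)
    (hdeg : ∀ χ, χ ≠ CharApps.oneIrr G → pp m ≤ charDegree (χ : G → ℂ)) : 0 < fv x S.a := by
  classical
  haveI := S.finite
  letI : Fintype T₂ := Fintype.ofFinite _
  letI : Fintype (IrrCharacter T₂) := irrFintype T₂
  letI : Fintype (Subgroup.normalizer ((T₂ : Subgroup G) : Set G)) := Fintype.ofFinite _
  set n := qq m + rr m + 1 with hn
  have hq := q_ge S.hm
  have hr := r_lt S.hm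
  have hqR : (27 : ℝ) ≤ qq m := by exact_mod_cast hq
  have hr2 : (rr m : ℝ) * rr m = 3 * qq m := by exact_mod_cast rr_sq
  have hr0 : (9 : ℝ) ≤ rr m := by nlinarith [(rr m).cast_nonneg (α := ℝ)]
  have hP : ((pp m : ℕ) : ℝ) + qq m = qq m * qq m + 1 := by exact_mod_cast pp_eq
  have hP0 : (0 : ℝ) < pp m := by nlinarith
  have hk : Nat.card (Subgroup.centralizer {x}) = k := card_cent hT hx h2
  have hwk : ∑ χ ∈ univ.erase (CharApps.oneIrr G), wt x χ = (k : ℝ) - 1 := by
    rw [Finset.sum_erase_eq_sub (Finset.mem_univ _), wt_one, sum_wt, hk]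
  have hnR : (n : ℝ) = (qq m : ℝ) + rr m + 1 := by rw [hn]; push_cast; ring
  have key := dih_bound hT₂.card hb₂ S.inv_conj x
  rw [← Finset.add_sum_erase _ _ (Finset.mem_univ (CharApps.oneIrr G)), wt_one,
    show charDegree ((CharApps.oneIrr G : IrrCharacter G) : G → ℂ) = 1 by
      rw [← CharApps.deg_eq_one_iff, CharApps.oneIrr_apply]] at key
  have htr : (tsum T₂ n (CharApps.oneIrr G) : ℝ) = (n : ℝ) - 1 := by
    have e := tsum_eq hTI (CharApps.oneIrr G)
    simp only [CharApps.oneIrr_apply, mul_one] at e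
    rw [Finset.sum_ite, Finset.sum_const_zero, zero_add, Finset.filter_ne', Finset.sum_const,
      Finset.card_erase_of_mem (Finset.mem_univ _), Finset.card_univ, ← Nat.card_eq_fintype_card, hT₂.card,
      nsmul_eq_mul, mul_one] at e
    have e' : ((n - 1 : ℕ) : ℤ) = tsum T₂ n (CharApps.oneIrr G) := by exact_mod_cast e
    rw [← e']
    push_cast [show 1 ≤ n by omega]
    ring
  rw [htr] at key
  have hsplit : ∀ χ ∈ univ.erase (CharApps.oneIrr G),
      wt x χ * (((charDegree (χ : G → ℂ) : ℝ) + tsum T₂ n χ) / (charDegree (χ : G → ℂ) : ℝ)) ≤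
        wt x χ + wt x χ * |(tsum T₂ n χ : ℝ)| / (charDegree (χ : G → ℂ) : ℝ) := by
    intro χ _
    have hd : (0 : ℝ) < charDegree (χ : G → ℂ) := Nat.cast_pos.2 (CharApps.deg_pos χ)
    have := wt_nonneg x χ
    rw [add_div, div_self hd.ne', mul_add, mul_one, mul_div_assoc]
    gcongr
    exact le_abs_self _
  have key2 := key.trans (add_le_add (le_refl ((n : ℝ) * fv x S.a))
    (add_le_add le_rfl (Finset.sum_le_sum hsplit)))
  rw [Finset.sum_add_distrib, hwk, Nat.cast_one, div_one, one_mul] at key2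
  suffices hR : ∑ χ ∈ univ.erase (CharApps.oneIrr G),
      wt x χ * |(tsum T₂ n χ : ℝ)| / (charDegree (χ : G → ℂ) : ℝ) < (n : ℝ) + 1 - k by
    have : (0 : ℝ) < (n : ℝ) * fv x S.a := by linarith
    exact pos_of_mul_pos_right this (Nat.cast_nonneg n)
  have hdR : ∀ χ ∈ univ.erase (CharApps.oneIrr G), (pp m : ℝ) ≤ charDegree (χ : G → ℂ) := fun χ hχ => by
    exact_mod_cast hdeg χ (Finset.mem_erase.1 hχ).1
  have hB2 : (n : ℝ) ≤ (2 / 3 * ((rr m : ℝ) + 1)) ^ 2 := by nlinarith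
  by_cases hk' : k ≤ qq m + 1
  · -- a small centraliser
    set B := 2 / 3 * ((rr m : ℝ) + 1) with hB
    have hB0 : 0 ≤ B := by positivity
    have hts : ∀ χ : IrrCharacter G, |(tsum T₂ n χ : ℝ)| ≤ ((n : ℝ) - 1) * B := fun χ => by
      rw [← Complex.norm_intCast, ← tsum_eq hTI χ]
      simp only [ite_mul, zero_mul, one_mul]
      rw [Finset.sum_ite, Finset.sum_const_zero, zero_add, Finset.filter_ne']
      refine (norm_sum_le _ _).trans ?_
      refine (Finset.sum_le_card_nsmul _ _ B fun t ht => norm_le χ hB0 ?_).trans (le_of_eq ?_)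
      · rw [card_cent hT₂ t.2 ?_]
        · exact hB2
        · have h1 : (t : G) ≠ 1 := fun e => (Finset.mem_erase.1 ht).1 (Subtype.ext e)
          refine order_of_sq_ne fun e => ?_
          have h' : orderOf (t : G) ∣ 1 := (Nat.coprime_two_left.2 (S.split_T.2.1)).gcd_eq_one ▸
            Nat.dvd_gcd (orderOf_dvd_of_pow_eq_one (by rw [sq, e])) (hT₂.order_dvd t.2)
          exact h1 (orderOf_eq_one_iff.1 (Nat.dvd_one.1 h'))
      · rw [Finset.card_erase_of_mem (Finset.mem_univ _), Finset.card_univ, ← Nat.card_eq_fintype_card,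
          hT₂.card, nsmul_eq_mul, Nat.cast_sub (by omega), Nat.cast_one]
    have hn1 : (1 : ℝ) ≤ n := by rw [hnR]; linarith
    calc _ ≤ ∑ χ ∈ univ.erase (CharApps.oneIrr G), wt x χ * (((n : ℝ) - 1) * B / pp m) := by
          refine Finset.sum_le_sum fun χ hχ => ?_
          rw [mul_div_assoc]
          exact mul_le_mul_of_nonneg_left
            (div_le_div₀ (mul_nonneg (by linarith) hB0) (hts χ) hP0 (hdR χ hχ)) (wt_nonneg x χ)
      _ = ((k : ℝ) - 1) * (((n : ℝ) - 1) * B / pp m) := by rw [← Finset.sum_mul, hwk]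
      _ < _ := by
        have hkR : (k : ℝ) ≤ (qq m : ℝ) + 1 := by exact_mod_cast hk'
        have hr3 : 3 * (rr m : ℝ) ≤ qq m := by nlinarith
        rw [← mul_div_assoc, div_lt_iff₀ hP0]
        have h0 : (0 : ℝ) ≤ ((n : ℝ) - 1) * B := mul_nonneg (by linarith) hB0
        calc ((k : ℝ) - 1) * (((n : ℝ) - 1) * B) ≤ (qq m : ℝ) * (((n : ℝ) - 1) * B) :=
              mul_le_mul_of_nonneg_right (by linarith) h0
          _ < ((rr m : ℝ) + 1) * pp m := by
              rw [hnR, hB]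
              have : 2 / 3 * ((qq m : ℝ) * ((qq m : ℝ) + rr m)) < pp m := by nlinarith
              nlinarith [mul_lt_mul_of_pos_left this (show (0 : ℝ) < (rr m : ℝ) + 1 by linarith)]
          _ ≤ _ := mul_le_mul_of_nonneg_right (by linarith) hP0.le
  -- the largest centraliser
  obtain ⟨rfl, rfl⟩ := hcase.resolve_left hk'
  obtain ⟨E, D, s₀, hone, hE, ⟨c, hc, hct, hc7⟩, hS2, M, c', s, hs, hDe, hSe⟩ := shape hTI
  have hx1 : x ≠ 1 := fun e => by rw [e, orderOf_one] at h2; omega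
  have hwc : ∀ χ ∉ E, wt x χ = (c χ : ℝ) ^ 2 := fun χ hχ => by
    rw [wt, hc χ hχ x hx hx1, Complex.norm_intCast, sq_abs]
  have hc1 : c (CharApps.oneIrr G) ^ 2 = 1 := by
    have := hwc _ hone
    rw [wt_one] at this
    exact_mod_cast this.symm
  have hsubE : E ⊆ univ.erase (CharApps.oneIrr G) := fun χ hχ =>
    Finset.mem_erase.2 ⟨fun e => hone (e ▸ hχ), Finset.mem_univ _⟩
  have hc6 : ∑ χ ∈ univ.erase (CharApps.oneIrr G) \ E, c χ ^ 2 ≤ 6 := by
    rw [← Finset.add_sum_erase _ _ (Finset.mem_filter.2 ⟨Finset.mem_univ (CharApps.oneIrr G), hone⟩), hc1] at hc7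
    have : univ.erase (CharApps.oneIrr G) \ E = (univ.filter (· ∉ E)).erase (CharApps.oneIrr G) := by
      ext χ; simp [and_comm]
    rw [this]
    linarith
  have hoff : ∀ χ ∈ univ.erase (CharApps.oneIrr G) \ E,
      wt x χ * |(tsum T n χ : ℝ)| / (charDegree (χ : G → ℂ) : ℝ) ≤ 2 * ((n : ℝ) - 1) / pp m * (c χ : ℝ) ^ 2 := by
    intro χ hχ
    obtain ⟨hχ1, hχE⟩ := Finset.mem_sdiff.1 hχ
    have hle : c χ ^ 2 ≤ 6 := le_trans (Finset.single_le_sum (f := fun χ => c χ ^ 2) (fun i _ => sq_nonneg _) hχ) hc6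
    have h1 : -2 ≤ c χ ∧ c χ ≤ 2 := by constructor <;> nlinarith
    have hcb : |(c χ : ℝ)| ≤ 2 := abs_le.2 ⟨by exact_mod_cast h1.1, by exact_mod_cast h1.2⟩
    have hn1 : (0 : ℝ) ≤ (n : ℝ) - 1 := by rw [hnR]; linarith
    rw [hct χ hχE, hwc χ hχE, Int.cast_mul, abs_mul]
    push_cast
    rw [abs_of_nonneg hn1]
    refine le_trans (div_le_div₀ (mul_nonneg (sq_nonneg _) (mul_nonneg hn1 zero_le_two))
      (mul_le_mul_of_nonneg_left (mul_le_mul_of_nonneg_left hcb hn1) (sq_nonneg _)) hP0 (hdR χ hχ1))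
      (le_of_eq ?_)
    ring
  rw [← Finset.sum_sdiff hsubE, show (n : ℝ) + 1 - n = 1 by ring]
  have hsum1 := Finset.sum_le_sum hoff
  rw [← Finset.mul_sum] at hsum1
  have hc6R : ∑ χ ∈ univ.erase (CharApps.oneIrr G) \ E, (c χ : ℝ) ^ 2 ≤ 6 := by exact_mod_cast hc6
  have hn0 : (0 : ℝ) ≤ 2 * ((n : ℝ) - 1) / pp m := div_nonneg (by rw [hnR]; linarith) hP0.le
  have hsum1' := hsum1.trans (mul_le_mul_of_nonneg_left hc6R hn0)
  have hEw : ∑ χ ∈ E, wt x χ ≤ (n : ℝ) - 1 := by
    rw [← hwk]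
    exact Finset.sum_le_sum_of_subset_of_nonneg hsubE fun i _ _ => wt_nonneg x i
  rcases E.eq_empty_or_nonempty with rfl | ⟨χ₀, hχ₀⟩
  · rw [Finset.sum_empty, add_zero]
    refine lt_of_le_of_lt hsum1' ?_
    rw [div_mul_eq_mul_div, div_lt_one hP0, hnR]
    nlinarith
  obtain ⟨hD0, -⟩ := hE χ₀ hχ₀
  have hDP : (pp m : ℤ) ≤ D := by rw [← hD0]; exact_mod_cast hdeg χ₀ (Finset.mem_erase.1 (hsubE hχ₀)).1
  have hDR : (0 : ℝ) < (D : ℝ) := lt_of_lt_of_le hP0 (by exact_mod_cast hDP)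
  have hEsum : ∑ χ ∈ E, wt x χ * |(tsum T n χ : ℝ)| / (charDegree (χ : G → ℂ) : ℝ) ≤
      ((n : ℝ) - 1) * (|(s₀ : ℝ)| / D) := by
    refine le_trans (le_of_eq ?_) (mul_le_mul_of_nonneg_right hEw (div_nonneg (abs_nonneg _) hDR.le))
    rw [Finset.sum_mul]
    refine Finset.sum_congr rfl fun χ hχ => ?_
    obtain ⟨e1, e2⟩ := hE χ hχ
    rw [e2, ← e1, mul_div_assoc]
    push_cast
    rfl
  refine lt_of_le_of_lt (add_le_add hsum1' hEsum) ?_
  suffices h : 12 * ((n : ℝ) - 1) * D + ((n : ℝ) - 1) * |(s₀ : ℝ)| * pp m < pp m * D by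
    rw [div_mul_eq_mul_div, ← mul_div_assoc, div_add_div _ _ hP0.ne' hDR.ne', div_lt_one (mul_pos hP0 hDR)]
    linarith
  have hn1 : (0 : ℝ) ≤ (n : ℝ) - 1 := by rw [hnR]; linarith
  rcases Nat.lt_or_ge m 2 with hm1 | hm2
  · obtain rfl : m = 1 := by have := S.hm; omega
    have eq' : qq 1 = 27 := by norm_num [qq]
    have er : rr 1 = 9 := by norm_num [rr]
    have ep : pp 1 = 703 := by norm_num [pp, eq']
    have en : n = 37 := by rw [hn, eq', er]
    rw [en] at hS2 hDe hSe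
    rw [ep] at hDP
    push_cast at hS2 hDe hSe hDP
    have hb : -36 ≤ s₀ ∧ s₀ ≤ 36 := by constructor <;> nlinarith
    have h30 : -30 ≤ s₀ ∧ s₀ ≤ 30 := by rcases hs with rfl | rfl <;> omega
    have hdvd : charDegree (χ₀ : G → ℂ) ∣ Nat.card G := by
      obtain ⟨d, -, hd, hdvd⟩ := irr_degree_dvd_card χ₀.2
      rw [CharApps.deg_eq, Nat.cast_inj] at hd
      exact hd ▸ hdvd
    rw [S.card, show gOrd 1 = 10073444472 by norm_num [gOrd, eq']] at hdvd
    have hbig : (2916 : ℤ) ≤ D := by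
      by_contra hlt
      have hj : charDegree (χ₀ : G → ℂ) % 37 = 6 ∨ charDegree (χ₀ : G → ℂ) % 37 = 7 ∨
          charDegree (χ₀ : G → ℂ) % 37 = 30 ∨ charDegree (χ₀ : G → ℂ) % 37 = 31 := by
        rcases hs with rfl | rfl <;> omega
      rw [← Nat.div_add_mod (charDegree (χ₀ : G → ℂ)) 37] at hdvd
      exact no_small ⟨_, (by omega)⟩ ⟨_, (by omega)⟩ (by simp only; omega) (by simp only; omega) hj hdvd
    have habs : |(s₀ : ℝ)| ≤ 30 := abs_le.2 ⟨by exact_mod_cast h30.1, by exact_mod_cast h30.2⟩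
    have hbigR : (2916 : ℝ) ≤ (D : ℝ) := by exact_mod_cast hbig
    rw [en, ep]
    push_cast
    nlinarith
  · have h243 : (243 : ℝ) ≤ qq m := by
      exact_mod_cast (show 3 ^ 5 ≤ qq m from Nat.pow_le_pow_right (by norm_num) (by omega))
    have habs : |(s₀ : ℝ)| ≤ 4 * ((rr m : ℝ) + 1) := by
      have : (s₀ : ℝ) ^ 2 ≤ 36 * (n : ℝ) := by exact_mod_cast hS2
      refine abs_le.2 ⟨?_, ?_⟩ <;> nlinarith
    have hDP' : (pp m : ℝ) ≤ (D : ℝ) := by exact_mod_cast hDP
    have hr27 : (27 : ℝ) ≤ rr m := by nlinarith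
    have hmain : ((n : ℝ) - 1) * (4 * ((rr m : ℝ) + 1) + 12) < pp m := by
      rw [hnR]
      nlinarith [mul_le_mul_of_nonneg_left hr27 (show (0 : ℝ) ≤ qq m by linarith)]
    have h3 : ((n : ℝ) - 1) * |(s₀ : ℝ)| * pp m ≤ ((n : ℝ) - 1) * (4 * ((rr m : ℝ) + 1)) * D :=
      mul_le_mul (mul_le_mul_of_nonneg_left habs hn1) hDP' hP0.le (by positivity)
    nlinarith [mul_lt_mul_of_pos_right hmain hDR]

end CfsgLib.ThompsonRee
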