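import Cfsg.Agent.Lib.Chev.Twist.Fam.G2Mult3
import Cfsg.Agent.Lib.Chev.Ree.Solv

/-!
Classes and centralisers of the elements of order divisible by three in twisted G2.
-/

set_option autoImplicit false
set_option maxRecDepth 100000

namespace CfsgLib.ThompsonRee

open Cfsg.Lie CfsgLib.Chev CfsgLib.Chev.G22 CfsgLib.Chev.Ree

variable {K : Type*} [Field K] [Fintype K] [CharP K 3] {σ : K →+* K} {m : ℕ}
variable (hm : 1 ≤ m) (hK : Fintype.card K = 3 ^ (2 * m + 1)) (hi : Inv3 σ) (h4 : Fintype.card K % 4 = 3)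

local notation "𝕊" => reeSys hm hK hi h4

include h4 hi

theorem mu_pm {f : Kˣ} (h : mu σ f = 1 ∨ mu σ f = -1) : f * f = 1 := by
  have hne := f.ne_zero
  have h3 : (f : K) ^ 3 = f := by
    by_contra hc
    obtain ⟨g1, g2⟩ := good_element hi h4 hc
    rcases h with h | h <;> rw [mu, mul_inv_eq_iff_eq_mul₀ hne] at h
    · exact g1 (by rw [h, one_mul])
    · exact g2 (by rw [h, neg_one_mul])
  refine Units.ext (mul_right_cancel₀ hne ?_)
  rw [Units.val_mul, Units.val_one, one_mul]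
  linear_combination h3

/-- the second layer scalars cover everything up to sign -/
theorem mu_cover {u : K} (hu : u ≠ 0) : ∃ y : Kˣ, mu σ y = u ∨ mu σ y = -u := by
  have hmu : ∀ y : Kˣ, mu σ y ≠ 0 := fun y =>
    mul_ne_zero (pow_ne_zero _ ((map_ne_zero σ).2 y.ne_zero)) (inv_ne_zero y.ne_zero)
  set Q := (powMonoidHom 2 : Kˣ →* Kˣ).range
  let φ : Q → Q := fun g => ⟨Units.mk0 (mu σ g.1) (hmu _), by
    obtain ⟨f, hf⟩ := g.2
    refine ⟨Units.mk0 (mu σ f) (hmu f), Units.ext ?_⟩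
    rw [powMonoidHom_apply, sq, Units.val_mul, Units.val_mk0, Units.val_mk0, ← mu_mul, ← sq]
    exact congrArg (mu σ) hf⟩
  have hφ : Function.Injective φ := by
    intro g g' e
    have e' : mu σ g.1 = mu σ g'.1 := congrArg (fun z : Q => ((z : Kˣ) : K)) e
    obtain ⟨f, hf⟩ := g.2
    obtain ⟨f', hf'⟩ := g'.2
    refine Subtype.ext ?_
    rw [← hf, ← hf', powMonoidHom_apply, powMonoidHom_apply] at e' ⊢
    rw [sq, sq, mu_mul, mu_mul] at e'
    have hd : mu σ (f / f') = 1 ∨ mu σ (f / f') = -1 := by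
      refine mul_self_eq_one_iff.1 (mul_right_cancel₀ (mul_ne_zero (hmu f') (hmu f')) ?_)
      rw [one_mul, mul_mul_mul_comm, ← mu_mul, div_mul_cancel, e']
    have := mu_pm hi h4 hd
    rw [div_mul_div_comm, div_eq_one] at this
    rw [sq, sq, this]
  obtain ⟨⟨_, f, rfl⟩, hf⟩ := Finite.surjective_of_injective hφ ⟨(Units.mk0 u hu) ^ 2, _, rfl⟩
  have e := congrArg (fun z : Q => ((z : Kˣ) : K)) hf
  simp only [φ, powMonoidHom_apply, Units.val_mk0, Units.val_pow_eq_pow_val] at e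
  rw [sq, mu_mul, sq, mul_self_eq_mul_self_iff] at e
  exact ⟨f, e⟩

omit h4

/-- the central element of the unipotent group -/
noncomputable def zz : ↥(tw σ).fix := uq hi 0 0 1

/-- the element of order three outside the centre -/
noncomputable def ww : ↥(tw σ).fix := uq hi 0 1 0

include h4

/-- the classes in the plane -/
theorem plane {u v : K} (h : u ≠ 0 ∨ v ≠ 0) :
    ∃ c : ↥(tw σ).fix, (u = 0 ∧ uq hi 0 u v = c * zz hi * c⁻¹) ∨
      (u ≠ 0 ∧ (uq hi 0 u v = c * ww hi * c⁻¹ ∨ uq hi 0 u v = c * (ww hi)⁻¹ * c⁻¹)) := by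
  rcases eq_or_ne u 0 with rfl | hu
  · have hv : v ≠ 0 := h.resolve_left fun e => e rfl
    refine ⟨hq hi (Units.mk0 v hv), Or.inl ⟨rfl, ?_⟩⟩
    rw [zz, hq_conj, mul_zero, mul_zero, Units.val_mk0, mul_one]
  · obtain ⟨y, hy⟩ := mu_cover hi h4 hu
    have hconj : ∀ e : K, uq hi (v / u) 0 0 * uq hi 0 e 0 * (uq hi (v / u) 0 0)⁻¹ = uq hi 0 e (v / u * e) := by
      intro e
      rw [mul_inv_eq_iff_eq_mul, uq_eq, uq_eq]
      simp only [map_zero]
      congr 1 <;> ring
    refine ⟨uq hi (v / u) 0 0 * hq hi y, Or.inr ⟨hu, ?_⟩⟩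
    rcases hy with hy | hy
    · left
      rw [ww, show ∀ a b c : ↥(tw σ).fix, a * b * c * (a * b)⁻¹ = a * (b * c * b⁻¹) * a⁻¹ from
        fun a b c => by group, hq_conj, mul_zero, mul_zero, mul_one, hy, hconj, div_mul_cancel₀ v hu]
    · right
      rw [ww, uq_inv_zero, neg_zero, show ∀ a b c : ↥(tw σ).fix, a * b * c * (a * b)⁻¹ = a * (b * c * b⁻¹) * a⁻¹ from
        fun a b c => by group, hq_conj, mul_zero, mul_zero, mul_neg, mul_one, hy, neg_neg, hconj,
        div_mul_cancel₀ v hu]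

omit h4

theorem t_zero {t u v : K} (h : uq hi t u v ^ 3 = 1) : t = 0 := by
  rw [← uq_zero hi, pow_succ, pow_succ, pow_one, uq_eq, uq_eq] at h
  have h3 := (uq_inj'' hi h).2.2
  by_contra ht
  refine mul_ne_zero (pow_ne_zero 3 ((map_ne_zero σ).2 ht)) (pow_ne_zero 2 ht) ?_
  linear_combination -h3 + (v - t * u) * three (K := K)

include hm hK h4

theorem U_form {g : ↥(tw σ).fix} (h : g ∈ (𝕊).U) : ∃ t u v, uq hi t u v = g := (mem_UF_iff hi).1 h

theorem norm_form {c w : ↥(tw σ).fix} (hw : w ∈ (𝕊).U) (hw1 : w ≠ 1) (hc : c * w = w * c) :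
    ∃ t u v y, c = uq hi t u v * hq hi y := by
  have hcU : c * w * c⁻¹ ∈ (𝕊).U := by rw [hc, mul_inv_cancel_right]; exact hw
  obtain ⟨u₀, hu₀, h₀, hh₀, rfl⟩ := ((𝕊).normU c).1 ((𝕊).ti_norm hw hw1 hcU)
  obtain ⟨t, u, v, rfl⟩ := (mem_UF_iff hi).1 hu₀
  obtain ⟨y, rfl⟩ := (mem_HF_iff hi).1 hh₀
  exact ⟨t, u, v, y, rfl⟩

theorem uq_mem_U (t u v : K) : uq hi t u v ∈ (𝕊).U := (mem_UF_iff hi).2 ⟨t, u, v, rfl⟩

omit hm hK h4

theorem uq_ne {t u v : K} (h : t ≠ 0 ∨ u ≠ 0 ∨ v ≠ 0) : uq hi t u v ≠ 1 := fun e => by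
  rw [← uq_zero hi] at e
  obtain ⟨a, b, c⟩ := uq_inj'' hi e
  rcases h with h | h | h <;> exact h (by assumption)

/-- moving a torus element to the other side -/
theorem move (t u v : K) (y : Kˣ) (t' u' v' : K) :
    uq hi t u v * hq hi y * uq hi t' u' v' =
      uq hi t u v * uq hi (lam σ y * t') (mu σ y * u') ((y : K) * v') * hq hi y := by
  rw [← hq_conj]; group

include hm hK h4

theorem cent_Z : Nat.card (Subgroup.centralizer {zz hi}) ≤ qq m ^ 3 := by
  haveI := (𝕊).finite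
  refine le_of_le_of_eq (Subgroup.card_le_of_le fun c hc => ?_) (𝕊).cardU
  rw [Subgroup.mem_centralizer_singleton_iff] at hc
  obtain ⟨t, u, v, y, rfl⟩ := norm_form hm hK hi h4 (uq_mem_U hm hK hi h4 0 0 1)
    (uq_ne hi (Or.inr (Or.inr one_ne_zero))) hc
  rw [zz, move, mul_zero, mul_zero, mul_one, ← mul_assoc (uq hi 0 0 1)] at hc
  have e := mul_right_cancel hc
  rw [uq_eq, uq_eq] at e
  have e3 := (uq_inj'' hi e).2.2
  simp only [map_zero, ne_eq, OfNat.ofNat_ne_zero, not_false_eq_true, zero_pow, zero_mul, mul_zero, sub_zero] at e3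
  rw [show y = 1 from Units.ext (by rw [Units.val_one]; linear_combination e3), map_one, mul_one]
  exact uq_mem_U hm hK hi h4 t u v

theorem cent_nine {t u v : K} (ht : t ≠ 0) :
    Nat.card (Subgroup.centralizer {uq hi t u v}) ≤ 3 * qq m := by
  classical
  haveI := (𝕊).finite
  have form : ∀ c : Subgroup.centralizer {uq hi t u v}, ∃ t' u' v', (c : ↥(tw σ).fix) = uq hi t' u' v' ∧
      (t' = 0 ∨ t' = t ∨ t' = -t) ∧
      v + v' - σ t' ^ 3 * t ^ 2 - t' * (u - σ t' ^ 3 * t) =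
        v' + v - σ t ^ 3 * t' ^ 2 - t * (u' - σ t ^ 3 * t') := by
    rintro ⟨c, hc⟩
    rw [Subgroup.mem_centralizer_singleton_iff] at hc
    obtain ⟨t', u', v', y, rfl⟩ := norm_form hm hK hi h4 (uq_mem_U hm hK hi h4 t u v)
      (uq_ne hi (Or.inl ht)) hc
    rw [move, ← mul_assoc (uq hi t u v)] at hc
    have e := mul_right_cancel hc
    rw [uq_eq, uq_eq] at e
    obtain ⟨e1, e2, e3⟩ := uq_inj'' hi e
    have hl : lam σ y = lam σ 1 := by
      have h1 : lam σ (1 : Kˣ) = 1 := by simp [lam]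
      rw [h1]
      refine mul_right_cancel₀ ht ?_
      linear_combination e1
    obtain rfl := lam_inj hi hl
    simp only [lam, mu, Units.val_one, map_one, one_pow, inv_one, one_mul, mul_one] at e e2 e3 ⊢
    refine ⟨t', u', v', rfl, ?_, by linear_combination -e3⟩
    have h3 : σ (t' / t) ^ 3 = t' / t := by
      rw [map_div₀, div_pow, div_eq_div_iff (pow_ne_zero 3 ((map_ne_zero σ).2 ht)) ht]
      linear_combination e2
    have h4' := scale_ne' hi h3
    have : (t' / t) * ((t' / t - 1) * (t' / t + 1)) = 0 := by linear_combination h4'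
    rcases mul_eq_zero.1 this with h | h
    · exact Or.inl ((div_eq_zero_iff.1 h).resolve_right ht)
    rcases mul_eq_zero.1 h with h | h
    · exact Or.inr (Or.inl ((div_eq_one_iff_eq ht).1 (sub_eq_zero.1 h)))
    · exact Or.inr (Or.inr (by rw [eq_neg_of_add_eq_zero_left h |> (div_eq_iff ht).1, neg_one_mul]))
  choose ft fu fv' hf hft hfv using form
  let F : Subgroup.centralizer {uq hi t u v} → ↥(({0, t, -t} : Finset K) ×ˢ (Finset.univ : Finset K)) :=
    fun c => ⟨(ft c, fv' c), by simp [hft c]⟩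
  have hF : Function.Injective F := by
    intro c d e
    have e' := congrArg Subtype.val e
    simp only [F, Prod.mk.injEq] at e'
    have hu : fu c = fu d := by
      refine mul_left_cancel₀ ht ?_
      have p1 := hfv c
      rw [e'.1, e'.2] at p1
      linear_combination p1 - hfv d
    exact Subtype.ext (by rw [hf c, hf d, e'.1, e'.2, hu])
  refine (Nat.card_le_card_of_injective F hF).trans ?_
  rw [Nat.card_eq_fintype_card, Fintype.card_coe, Finset.card_product, Finset.card_univ, hK, qq]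
  exact Nat.mul_le_mul_right _ ((Finset.card_insert_le _ _).trans (by
    have := Finset.card_insert_le t ({-t} : Finset K)
    simp only [Finset.card_singleton] at this
    omega))

theorem cent_six {s : K} (hs : s ≠ 0) :
    Nat.card (Subgroup.centralizer {aF hi * uq hi 0 s 0}) ≤ 2 * qq m := by
  classical
  haveI := (𝕊).finite
  have ha : aF hi = hq hi (-1 : Kˣ) := Subtype.ext rfl
  have hcw : Commute (aF hi) (uq hi 0 s 0) := Subtype.ext (aR_W s)
  have hw3 : uq hi 0 s 0 ^ 3 = 1 := Subtype.ext (W_cube_zero s 0)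
  have hg3 : (aF hi * uq hi 0 s 0) ^ 3 = aF hi := by
    rw [hcw.mul_pow, hw3, mul_one, pow_succ, sq, aF_sq, one_mul]
  have hg4 : (aF hi * uq hi 0 s 0) ^ 4 = uq hi 0 s 0 := by
    rw [hcw.mul_pow, pow_succ (uq hi 0 s 0), hw3, one_mul, show (4 : ℕ) = 2 * 2 by rfl, pow_mul, sq, sq,
      aF_sq, one_mul, one_mul]
  have form : ∀ c : Subgroup.centralizer {aF hi * uq hi 0 s 0}, ∃ (u' : K) (y : Kˣ),
      (c : ↥(tw σ).fix) = uq hi 0 u' 0 * hq hi y ∧ (y = 1 ∨ y = -1) := by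
    rintro ⟨c, hc⟩
    rw [Subgroup.mem_centralizer_singleton_iff] at hc
    have hca : c * aF hi = aF hi * c := by rw [← hg3]; exact (Commute.pow_right hc 3).eq
    have hcw' : c * uq hi 0 s 0 = uq hi 0 s 0 * c := by rw [← hg4]; exact (Commute.pow_right hc 4).eq
    obtain ⟨t', u', v', y, rfl⟩ := norm_form hm hK hi h4 (uq_mem_U hm hK hi h4 0 s 0)
      (uq_ne hi (Or.inr (Or.inl hs))) hcw'
    rw [ha, mul_assoc, ← map_mul, mul_comm y, map_mul, ← mul_assoc, ← mul_assoc] at hca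
    have e : hq hi (-1 : Kˣ) * uq hi t' u' v' * (hq hi (-1 : Kˣ))⁻¹ = uq hi t' u' v' :=
      mul_inv_eq_iff_eq_mul.2 (mul_right_cancel hca).symm
    rw [hq_conj, lam_neg_one, mu_neg_one] at e
    obtain ⟨e1, -, e3⟩ := uq_inj'' hi e
    simp only [neg_mul, one_mul, Units.val_neg, Units.val_one] at e1 e3
    obtain rfl : t' = 0 := (mul_eq_zero.1 (show (2 : K) * t' = 0 by linear_combination -e1)).resolve_left two_ne
    obtain rfl : v' = 0 := (mul_eq_zero.1 (show (2 : K) * v' = 0 by linear_combination -e3)).resolve_left two_ne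
    rw [move, ← mul_assoc (uq hi 0 s 0)] at hcw'
    have e' := mul_right_cancel hcw'
    rw [uq_eq, uq_eq] at e'
    obtain ⟨-, e2, -⟩ := uq_inj'' hi e'
    simp only [map_zero, ne_eq, OfNat.ofNat_ne_zero, not_false_eq_true, zero_pow, zero_mul, mul_zero, sub_zero] at e2
    have hy : mu σ y = 1 := mul_right_cancel₀ hs (by linear_combination e2)
    refine ⟨u', y, rfl, ?_⟩
    have := congrArg Units.val (mu_pm hi h4 (Or.inl hy))
    rw [Units.val_mul, Units.val_one, mul_self_eq_one_iff] at this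
    exact this.imp (fun e => Units.ext e) (fun e => Units.ext (by simpa using e))
  choose fu fy hf hfy using form
  let F : Subgroup.centralizer {aF hi * uq hi 0 s 0} → ↥(({1, -1} : Finset Kˣ) ×ˢ (Finset.univ : Finset K)) :=
    fun c => ⟨(fy c, fu c), by simpa using hfy c⟩
  have hF : Function.Injective F := by
    intro c d e
    have e' := congrArg Subtype.val e
    simp only [F, Prod.mk.injEq] at e'
    exact Subtype.ext (by rw [hf c, hf d, e'.1, e'.2])
  refine (Nat.card_le_card_of_injective F hF).trans ?_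
  rw [Nat.card_eq_fintype_card, Fintype.card_coe, Finset.card_product, Finset.card_univ, hK, qq]
  exact Nat.mul_le_mul_right _ (by have := Finset.card_insert_le (1 : Kˣ) ({-1} : Finset Kˣ); simpa using this)

/-- the class of an element of order six -/
theorem six_form {g : ↥(tw σ).fix} (hg : orderOf g = 6) :
    ∃ (c : ↥(tw σ).fix) (s : K), s ≠ 0 ∧ c * g * c⁻¹ = aF hi * uq hi 0 s 0 := by
  haveI := (𝕊).finite
  haveI : Fact (Nat.Prime 3) := ⟨Nat.prime_three⟩
  have h6 : g ^ 6 = 1 := by rw [← hg, pow_orderOf_eq_one]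
  have h3 : orderOf (g ^ 3) = 2 := by rw [orderOf_pow, hg]; rfl
  obtain ⟨d, hd⟩ := (𝕊).inv_conj (g ^ 3) (by rw [← pow_add]; exact h6)
    (fun e => by rw [e, orderOf_one] at h3; omega)
  set g' := d⁻¹ * g * d⁻¹⁻¹ with hg'
  have hg'3 : g' ^ 3 = (𝕊).a := by rw [hg', conj_pow, ← hd]; group
  have hg'o : orderOf g' = 6 := by rw [hg', orderOf_conj, hg]
  have hwo : orderOf (g' ^ 4) = 3 := by rw [orderOf_pow, hg'o]; rfl
  have hwC : g' ^ 4 ∈ Cn (𝕊).a := by
    rw [mem_Cn, ← hg'3]; exact ((Commute.refl g').pow_pow 4 3).eq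
  set C := Cn (𝕊).a
  have hVc : Nat.card ↥(((𝕊).U ⊓ C).subgroupOf C) = 3 ^ ((Nat.card ↥C).factorization 3) := by
    have h3' : ¬ 3 ∣ (qq m - 1) * (qq m + 1) := fun h => by
      rcases Nat.prime_three.dvd_mul.1 h with h | h
      exacts [not_three_sub hm h, not_three_add h]
    rw [Nat.card_congr (Subgroup.subgroupOfEquivOfLe inf_le_right).toEquiv, (𝕊).cardUa, (𝕊).card_Ca,
      mul_assoc, Nat.factorization_mul qq_pos.ne'
        (fun e : (qq m - 1) * (qq m + 1) = 0 => h3' (e ▸ dvd_zero 3)), Finsupp.add_apply,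
      Nat.factorization_eq_zero_of_not_dvd h3', add_zero, qq,
      Nat.prime_three.factorization_pow, Finsupp.single_eq_same]
  obtain ⟨Q, hQ⟩ := (IsPGroup.of_card (p := 3) (n := 1)
    (G := Subgroup.zpowers (⟨g' ^ 4, hwC⟩ : C))
    (by rw [Nat.card_zpowers, Subgroup.orderOf_mk, hwo, pow_one])).exists_le_sylow
  obtain ⟨c, hcQ⟩ := MulAction.exists_smul_eq C (Sylow.ofCard _ hVc) Q
  have hm' := hQ (Subgroup.mem_zpowers (⟨g' ^ 4, hwC⟩ : C))
  rw [← hcQ, Sylow.coe_subgroup_smul, Sylow.coe_ofCard] at hm'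
  obtain ⟨v, hv, hvu⟩ := hm'
  have he : (c : ↥(tw σ).fix) * v * (c : ↥(tw σ).fix)⁻¹ = g' ^ 4 := congrArg Subtype.val hvu
  have hvU := Subgroup.mem_subgroupOf.1 hv
  obtain ⟨s, hs⟩ := fixed_U hi (mem_UF.1 hvU.1) (by
    rw [mul_inv_eq_iff_eq_mul]
    exact congrArg Subtype.val (mem_Cn.1 hvU.2).symm)
  have hs' : ((v : C) : ↥(tw σ).fix) = uq hi 0 s 0 := Subtype.ext hs
  refine ⟨(c : ↥(tw σ).fix)⁻¹ * d⁻¹, s, fun h0 => ?_, ?_⟩
  · rw [← he, hs', h0, uq_zero, mul_one, mul_inv_cancel, orderOf_one] at hwo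
    omega
  · have hca : (c : ↥(tw σ).fix) * (𝕊).a = (𝕊).a * c := mem_Cn.1 c.2
    calc (c : ↥(tw σ).fix)⁻¹ * d⁻¹ * g * ((c : ↥(tw σ).fix)⁻¹ * d⁻¹)⁻¹
        = (c : ↥(tw σ).fix)⁻¹ * g' * c := by rw [hg']; group
      _ = (c : ↥(tw σ).fix)⁻¹ * (g' ^ 3 * g' ^ 4) * c := by
          rw [← pow_add, show (3 : ℕ) + 4 = orderOf g' + 1 by omega, pow_succ, pow_orderOf_eq_one, one_mul]
      _ = (c : ↥(tw σ).fix)⁻¹ * ((𝕊).a * c) * v := by rw [hg'3, ← he]; group
      _ = _ := by rw [← hca, inv_mul_cancel_left, hs']; rfl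

omit hm hK h4

theorem a_Z (v : K) : aF hi * uq hi 0 0 v * (aF hi)⁻¹ = uq hi 0 0 (-v) := by
  rw [show aF hi = hq hi (-1 : Kˣ) from Subtype.ext rfl, hq_conj]
  simp

end CfsgLib.ThompsonRee
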