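import Cfsg.Agent.Lib.KnownB.ThompsonRee.Invol
import Cfsg.Agent.Lib.KnownB.ThompsonRee.Unip
import Cfsg.Agent.Lib.Chev.Twist.Fam.G2MinDeg

/-!
The square of every class of elements of order above two prime to three in twisted G2 covers
everything but the identity.
-/

set_option autoImplicit false
set_option maxRecDepth 100000
set_option linter.style.haveILetI false

namespace CfsgLib.ThompsonRee

open Cfsg Cfsg.Lie CfsgLib.Chars CfsgLib.Chev CfsgLib.Chev.G22 CfsgLib.Chev.Ree Finset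

universe u

variable {K : Type u} [Field K] [Fintype K] [CharP K 3] {σ : K →+* K} {m : ℕ}
variable (hm : 1 ≤ m) (hK : Fintype.card K = 3 ^ (2 * m + 1)) (hi : Inv3 σ) (h4 : Fintype.card K % 4 = 3)

local notation "𝕊" => reeSys hm hK hi h4

omit [Fintype K] in
/-- the plane as a homomorphism -/
noncomputable def planeHom : Multiplicative (K × K) →* ↥(tw σ).fix where
  toFun p := uq hi 0 p.toAdd.1 p.toAdd.2
  map_one' := uq_zero hi
  map_mul' p p' := by rw [uq_eq]; simp

omit [Fintype K] in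
theorem planeHom_inj : Function.Injective (planeHom hi) := fun p p' e => by
  obtain ⟨-, h1, h2⟩ := uq_inj'' hi (show uq hi 0 p.toAdd.1 p.toAdd.2 = uq hi 0 p'.toAdd.1 p'.toAdd.2 from e)
  exact Multiplicative.toAdd.injective (Prod.ext h1 h2)

include hm hK hi h4

/-- the centre of the unipotent group meets the square, by a pigeonhole on involutions -/
theorem cc_zz {T : Subgroup ↥(tw σ).fix} {k : ℕ} (hT : Tor (𝕊) T k) {x b : ↥(tw σ).fix}
    (hb : Inverts b T) (hx : x ∈ T) (h2 : 2 < orderOf x) : CC x (zz hi) := by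
  classical
  haveI := (𝕊).finite
  letI : Fintype ↥(tw σ).fix := Fintype.ofFinite _
  set a := (𝕊).a with ha
  have hconj : ∀ i : ↥(tw σ).fix, i * i = 1 → i ≠ 1 → ∃ g, g * a * g⁻¹ = i := (𝕊).inv_conj
  have hbi : b⁻¹ = b := inv_eq_of_mul_eq_one_right hb.sq
  have htinv : ∀ t ∈ T, b * t * b = t⁻¹ := fun t ht => by
    have := hb.inv t ht
    rwa [hbi] at this
  -- each involution of the coset is conjugate to the given one
  have hg : ∀ t : T, ∃ g : ↥(tw σ).fix, g⁻¹ * b * g = b * (t : ↥(tw σ).fix) := fun t => by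
    obtain ⟨g₁, hg₁⟩ := hconj (b * (t : ↥(tw σ).fix))
      (by rw [← mul_assoc, htinv t t.2, inv_mul_cancel])
      (fun e => hb.notMem (by rw [eq_inv_of_mul_eq_one_left e]; exact inv_mem t.2))
    obtain ⟨g₀, hg₀⟩ := hconj b hb.sq hb.ne
    exact ⟨g₀ * g₁⁻¹, by rw [← hg₁, ← hg₀]; group⟩
  choose g hg using hg
  let el : T × Cn b → ↥(tw σ).fix := fun p => (p.2 : ↥(tw σ).fix) * g p.1
  let im : T × Cn b → ↥(tw σ).fix := fun p => el p * x * (el p)⁻¹
  have hel : ∀ p, (el p)⁻¹ * b * el p = b * (p.1 : ↥(tw σ).fix) := fun p => by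
    rw [show (el p)⁻¹ * b * el p = (g p.1)⁻¹ * ((p.2 : ↥(tw σ).fix)⁻¹ * (b * p.2)) * g p.1 by simp only [el]; group,
      ← mem_Cn.1 p.2.2, inv_mul_cancel_left, hg]
  have helinj : Function.Injective el := fun p p' e => by
    have h1 := hel p
    rw [e, hel p'] at h1
    have e1 : p.1 = p'.1 := Subtype.ext (mul_left_cancel h1).symm
    refine Prod.ext e1 (Subtype.ext (mul_right_cancel (b := g p.1) ?_))
    have e2 : (p.2 : ↥(tw σ).fix) * g p.1 = (p'.2 : ↥(tw σ).fix) * g p'.1 := e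
    rwa [← e1] at e2
  have hinv : ∀ p, b * im p * b = (im p)⁻¹ := fun p => by
    have hxi : b * (p.1 : ↥(tw σ).fix) * x * (b * (p.1 : ↥(tw σ).fix))⁻¹ = x⁻¹ := by
      rw [show b * (p.1 : ↥(tw σ).fix) * x * (b * (p.1 : ↥(tw σ).fix))⁻¹ = b * ((p.1 : ↥(tw σ).fix) * x * (p.1 : ↥(tw σ).fix)⁻¹) * b⁻¹ by group,
        hT.mul_comm' p.1.2 hx, mul_inv_cancel_right, hb.inv x hx]
    rw [← hel p] at hxi
    calc b * im p * b = b * im p * b⁻¹ := by rw [hbi]
      _ = el p * ((el p)⁻¹ * b * el p * x * ((el p)⁻¹ * b * el p)⁻¹) * (el p)⁻¹ := by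
          simp only [im]; group
      _ = _ := by rw [hxi]; simp only [im]; group
  set X := (Finset.univ : Finset (T × Cn b)).image im with hX
  have hXcard : Nat.card (Cn a) ≤ X.card := by
    have hfib : ∀ y ∈ X, (Finset.univ.filter fun p => im p = y).card ≤ k := by
      intro y hy
      obtain ⟨p₀, -, hp₀⟩ := Finset.mem_image.1 hy
      rw [← card_cent hT hx h2, Nat.card_eq_fintype_card, ← Finset.card_univ]
      refine Finset.card_le_card_of_injOn
        (fun p => if hp : im p = y then (⟨(el p₀)⁻¹ * el p, Subgroup.mem_centralizer_singleton_iff.2 (by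
            have e : el p * x * (el p)⁻¹ = el p₀ * x * (el p₀)⁻¹ := hp.trans hp₀.symm
            calc (el p₀)⁻¹ * el p * x = (el p₀)⁻¹ * (el p * x * (el p)⁻¹) * el p := by group
              _ = _ := by rw [e]; group)⟩ : Subgroup.centralizer {x}) else 1)
        (fun p _ => Finset.mem_coe.2 (Finset.mem_univ _)) ?_
      intro p hp p' hp' e
      simp only [Finset.coe_filter, Finset.mem_univ, true_and, Set.mem_setOf_eq] at hp hp'
      simp only [hp, hp', ↓reduceDIte, Subtype.mk.injEq, mul_right_inj] at e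
      exact helinj e
    have h := Finset.card_le_mul_card_image (Finset.univ : Finset (T × Cn b)) k hfib
    obtain ⟨g₀, hg₀⟩ := hconj b hb.sq hb.ne
    rw [← hX, Finset.card_univ, ← Nat.card_eq_fintype_card, Nat.card_prod, hT.card,
      show Nat.card (Cn b) = Nat.card (Cn a) by rw [← hg₀, card_Cn_conj]] at h
    exact Nat.le_of_mul_le_mul_left h (hT.card ▸ Nat.card_pos)
  set B := X.image (b * ·) with hB
  have hBcard : B.card = X.card := Finset.card_image_of_injective _ (mul_right_injective b)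
  have hBinv : ∀ β ∈ B, ∃ d, d * a * d⁻¹ = β := by
    intro β hβ
    obtain ⟨y, hy, rfl⟩ := Finset.mem_image.1 hβ
    obtain ⟨p, -, rfl⟩ := Finset.mem_image.1 hy
    have hne : b * im p ≠ 1 := fun e => by
      have he : im p = b := by rw [eq_inv_of_mul_eq_one_right e, hbi]
      have ho : orderOf (im p) = orderOf x := orderOf_conj _ _
      rw [he, orderOf_eq_prime (p := 2) (by rw [sq, hb.sq]) hb.ne] at ho
      omega
    exact hconj _ (by rw [← mul_assoc, hinv, inv_mul_cancel]) hne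
  let av : K → ↥(tw σ).fix := fun v => a * uq hi 0 0 v
  have hav : ∀ v w, av v * av w = uq hi 0 0 (w - v) := fun v w => by
    have e : a * uq hi 0 0 v * a = uq hi 0 0 (-v) := by
      have := a_Z hi v
      rwa [inv_eq_of_mul_eq_one_right (aF_sq hi)] at this
    simp only [av]
    rw [← mul_assoc, e, uq_eq]
    simp [sub_eq_neg_add]
  have he : ∀ v, ∃ e, e * a * e⁻¹ = av v := fun v => hconj _ (by rw [hav, sub_self, uq_zero]) fun e => by
    have hm' : a ∈ (𝕊).U := by
      rw [eq_inv_of_mul_eq_one_left e]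
      exact inv_mem (uq_mem_U hm hK hi h4 0 0 v)
    rcases (𝕊).U_order hm' (𝕊).ha1 with h | h <;> rw [(𝕊).orderOf_a] at h <;> omega
  choose e he using he
  choose d hd using hBinv
  -- two conjugates of the coset of the centre in the set
  obtain ⟨h, v, w, hvw, hv, hw⟩ : ∃ h v w, v ≠ w ∧ h * av v * h⁻¹ ∈ B ∧ h * av w * h⁻¹ ∈ B := by
    by_contra hno
    push Not at hno
    let F : (K × B) × Cn a → ↥(tw σ).fix := fun p => d p.1.2.1 p.1.2.2 * p.2 * (e p.1.1)⁻¹
    have hval : ∀ p, F p * av p.1.1 * (F p)⁻¹ = p.1.2.1 := fun p => by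
      rw [← he, show F p * (e p.1.1 * a * (e p.1.1)⁻¹) * (F p)⁻¹ =
        d p.1.2.1 p.1.2.2 * ((p.2 : ↥(tw σ).fix) * a * (p.2 : ↥(tw σ).fix)⁻¹) * (d p.1.2.1 p.1.2.2)⁻¹ by simp only [F]; group,
        mem_Cn_conj.1 p.2.2, hd]
    have hF : Function.Injective F := by
      intro p p' heq
      have h1 := hval p
      have h2 := hval p'
      rw [← heq] at h2
      have ev : p.1.1 = p'.1.1 := by
        by_contra hne
        exact hno (F p) p.1.1 p'.1.1 hne (h1 ▸ p.1.2.2) (h2 ▸ p'.1.2.2)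
      rw [← ev, h1] at h2
      have eb : p.1.2 = p'.1.2 := Subtype.ext h2
      obtain ⟨⟨v, β⟩, c⟩ := p
      obtain ⟨⟨v', β'⟩, c'⟩ := p'
      obtain rfl : v = v' := ev
      obtain rfl : β = β' := eb
      simp only [F, mul_left_inj, mul_right_inj] at heq
      rw [Subtype.ext heq]
    have hle := Nat.card_le_card_of_injective F hF
    rw [Nat.card_prod, Nat.card_prod, Nat.card_eq_fintype_card (α := K), Nat.card_eq_fintype_card (α := B),
      Fintype.card_coe, hBcard, (𝕊).card, hK, ← qq] at hle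
    have h2' : qq m * Nat.card (Cn a) * Nat.card (Cn a) ≤ gOrd m :=
      le_trans (Nat.mul_le_mul_right _ (Nat.mul_le_mul_left _ hXcard)) hle
    rw [ha, (𝕊).card_Ca, gOrd] at h2'
    have hq := q_ge hm
    obtain ⟨p, hp⟩ : ∃ p, qq m = p + 1 := ⟨qq m - 1, by omega⟩
    rw [hp] at h2' hq
    simp only [Nat.add_sub_cancel] at h2'
    have h3 : (p + 1) ^ 3 * p * (p * (p + 2) ^ 2) ≤ (p + 1) ^ 3 * p * ((p + 1) ^ 3 + 1) :=
      le_trans (le_of_eq (by ring)) h2'
    have := Nat.le_of_mul_le_mul_left h3 (Nat.mul_pos (pow_pos (by omega) 3) (by omega))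
    nlinarith
  obtain ⟨y₁, hy₁, e₁⟩ := Finset.mem_image.1 hv
  obtain ⟨y₂, hy₂, e₂⟩ := Finset.mem_image.1 hw
  obtain ⟨p, -, rfl⟩ := Finset.mem_image.1 hy₁
  obtain ⟨p', -, rfl⟩ := Finset.mem_image.1 hy₂
  have hcc : CC x (h * uq hi 0 0 (w - v) * h⁻¹) := by
    refine ⟨el p * b, el p', ?_⟩
    rw [← hav, show h * (av v * av w) * h⁻¹ = h * av v * h⁻¹ * (h * av w * h⁻¹) by group, ← e₁, ← e₂]
    calc b * im p * (b * im p') = b * im p * b * im p' := by group
      _ = (im p)⁻¹ * im p' := by rw [hinv]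
      _ = el p * x⁻¹ * (el p)⁻¹ * (el p' * x * (el p')⁻¹) := by simp only [im]; group
      _ = _ := by rw [← hb.inv x hx]; group
  obtain ⟨c, ⟨-, hc⟩ | ⟨h0, -⟩⟩ := plane hi h4 (u := 0) (v := w - v) (Or.inr (sub_ne_zero.2 hvw.symm))
  · rw [hc] at hcc
    have := (hcc.conj (c⁻¹ * h⁻¹))
    rwa [show c⁻¹ * h⁻¹ * (h * (c * zz hi * c⁻¹) * h⁻¹) * (c⁻¹ * h⁻¹)⁻¹ = zz hi by group] at this
  · exact absurd rfl h0

/-- **the square covers everything but the identity** -/
theorem cover (hdeg : ∀ χ : IrrCharacter ↥(tw σ).fix, χ ≠ CharApps.oneIrr _ → pp m ≤ charDegree (χ : ↥(tw σ).fix → ℂ))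
    {x g : ↥(tw σ).fix} (h2 : 2 < orderOf x) (h3 : ¬ 3 ∣ orderOf x) (hg : g ≠ 1) : CC x g := by
  classical
  haveI := (𝕊).finite
  letI : Fintype ↥(tw σ).fix := Fintype.ofFinite _
  letI : Fintype (IrrCharacter ↥(tw σ).fix) := irrFintype _
  obtain ⟨T₂, b₂, hT₂, hTI, hb₂, htori⟩ := tori (𝕊)
  obtain ⟨T, k, b, c₀, hT, hb, hc₀, hcase⟩ := htori x h2 h3
  refine CC.of_conj (c := c₀⁻¹) ?_
  rw [inv_inv]
  replace h2 : 2 < orderOf (c₀⁻¹ * x * c₀) := by
    rwa [show c₀⁻¹ * x * c₀ = c₀⁻¹ * x * c₀⁻¹⁻¹ by group, orderOf_conj]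
  generalize c₀⁻¹ * x * c₀ = t at hc₀ h2 ⊢
  clear h3 x
  have hinv := hb.inv t hc₀
  have hq := q_ge hm
  have hr := r_lt hm
  have hqR : (27 : ℝ) ≤ qq m := by exact_mod_cast hq
  have hr2 : (rr m : ℝ) * rr m = 3 * qq m := by exact_mod_cast rr_sq
  have hr0 : (9 : ℝ) ≤ rr m := by nlinarith [(rr m).cast_nonneg (α := ℝ)]
  have hr3 : 3 * (rr m : ℝ) ≤ qq m := by nlinarith
  have hP : ((pp m : ℕ) : ℝ) + qq m = qq m * qq m + 1 := by exact_mod_cast pp_eq
  have hP0 : (0 : ℝ) < pp m := by nlinarith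
  have hdR : ∀ χ : IrrCharacter ↥(tw σ).fix, χ ≠ CharApps.oneIrr _ →
      (pp m : ℝ) ≤ charDegree (χ : ↥(tw σ).fix → ℂ) := fun χ h => by exact_mod_cast hdeg χ h
  have hk : Nat.card (Subgroup.centralizer {t}) = k := card_cent hT hc₀ h2
  have hkq : (k : ℝ) ≤ (qq m : ℝ) + rr m + 1 := by
    have : k ≤ qq m + rr m + 1 := hcase.elim (fun h => by omega) (fun h => h.2.le)
    exact_mod_cast this
  have hk1 : (1 : ℝ) ≤ k := by
    have : 0 < k := hk ▸ Nat.card_pos
    exact_mod_cast this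
  -- a small centraliser suffices
  have small : ∀ g' : ↥(tw σ).fix, Nat.card (Subgroup.centralizer {g'}) ≤ 3 * qq m → 0 < fv t g' := by
    intro g' h
    refine fv_pos hP0 hdR (B := rr m) (Nat.cast_nonneg _) ?_ ?_
    · rw [sq, hr2]; exact_mod_cast h
    · rw [hk]
      nlinarith
  have hfin : ∀ c g', c * g * c⁻¹ = g' → CC t g' → CC t g := fun c g' e h => by
    have := h.conj c⁻¹
    rw [← e] at this
    rwa [show c⁻¹ * (c * g * c⁻¹) * c⁻¹⁻¹ = g by group] at this
  by_cases h3g : 3 ∣ orderOf g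
  · rcases (𝕊).three_dvd h3g with ho | ho | ho
    · -- order three
      obtain ⟨c, hc⟩ := (𝕊).conj_U (x := g) (k := 1) (by rw [pow_one, ← ho, pow_orderOf_eq_one])
      obtain ⟨t', u', v', he⟩ := U_form hm hK hi h4 hc
      obtain rfl := t_zero hi (by rw [he, conj_pow, ← ho, pow_orderOf_eq_one]; group)
      have huv : u' ≠ 0 ∨ v' ≠ 0 := by
        by_contra hh
        push Not at hh
        rw [hh.1, hh.2, uq_zero] at he
        exact hg (conj_eq_one_iff.1 he.symm)
      refine hfin c _ he.symm ?_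
      obtain ⟨d, ⟨-, hd⟩ | ⟨-, hd⟩⟩ := plane hi h4 huv
      · rw [hd]; exact (cc_zz hm hK hi h4 hT hb hc₀ h2).conj d
      suffices hw : 0 < fv t (ww hi) by
        rcases hd with hd | hd <;> rw [hd]
        · exact (cc_of_pos hinv hw).conj d
        · exact (cc_of_pos hinv ((fv_inv t (ww hi)).symm ▸ hw)).conj d
      by_contra hw
      push Not at hw
      letI : Fintype (planeHom hi).range := Fintype.ofFinite _
      have hge := sum_fv_ge t (planeHom hi).range
      rw [← Nat.card_congr (MonoidHom.ofInjective (planeHom_inj hi)).toEquiv,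
        ← (MonoidHom.ofInjective (planeHom_inj hi)).toEquiv.sum_comp,
        ← Multiplicative.ofAdd.sum_comp, Fintype.sum_prod_type,
        ← Finset.add_sum_erase _ _ (Finset.mem_univ (0 : K))] at hge
      simp only [MulEquiv.toEquiv_eq_coe, EquivLike.coe_coe, MonoidHom.ofInjective_apply] at hge
      change _ ≤ (∑ v : K, fv t (uq hi 0 0 v)) + ∑ u ∈ univ.erase (0 : K), ∑ v : K, fv t (uq hi 0 u v) at hge
      have hneg : ∑ u ∈ univ.erase (0 : K), ∑ v : K, fv t (uq hi 0 u v) ≤ 0 := by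
        refine Finset.sum_nonpos fun u hu => Finset.sum_nonpos fun v _ => ?_
        obtain ⟨d, ⟨h0, -⟩ | ⟨-, hd⟩⟩ := plane hi h4 (v := v) (Or.inl (Finset.mem_erase.1 hu).1)
        · exact absurd h0 (Finset.mem_erase.1 hu).1
        · rcases hd with hd | hd <;> rw [hd, fv_conj]
          · exact hw
          · rw [fv_inv]; exact hw
      set B : ℝ := (qq m : ℝ) * rr m with hB
      have hzB : (Nat.card (Subgroup.centralizer {zz hi}) : ℝ) ≤ B ^ 2 := by
        have h1 : (Nat.card (Subgroup.centralizer {zz hi}) : ℝ) ≤ (qq m : ℝ) ^ 3 := by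
          exact_mod_cast cent_Z hm hK hi h4
        refine h1.trans ?_
        rw [hB, mul_pow, sq (rr m : ℝ), hr2]
        nlinarith [pow_nonneg (show (0 : ℝ) ≤ qq m by linarith) 3]
      have hz := fv_le (x := t) hP0 hdR (mul_nonneg (Nat.cast_nonneg _) (Nat.cast_nonneg _) : (0 : ℝ) ≤ B) hzB
      rw [hk] at hz
      have hrow : ∑ v : K, fv t (uq hi 0 0 v) ≤ (k : ℝ) + ((qq m : ℝ) - 1) * (1 + ((k : ℝ) - 1) * B / pp m) := by
        rw [← Finset.add_sum_erase _ _ (Finset.mem_univ (0 : K)), uq_zero, fv_one, hk]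
        refine add_le_add le_rfl ((Finset.sum_le_card_nsmul _ _ (1 + ((k : ℝ) - 1) * B / pp m) fun v hv => ?_).trans (le_of_eq ?_))
        · obtain ⟨d, ⟨-, hd⟩ | ⟨h0, -⟩⟩ := plane hi h4 (u := 0) (Or.inr (Finset.mem_erase.1 hv).1)
          · rw [hd, fv_conj]; exact hz
          · exact absurd rfl h0
        · rw [Finset.card_erase_of_mem (Finset.mem_univ _), Finset.card_univ, hK, ← qq, nsmul_eq_mul,
            Nat.cast_sub (by omega), Nat.cast_one]
      have hcard : (Nat.card (Multiplicative (K × K)) : ℝ) = (qq m : ℝ) * qq m := by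
        rw [Nat.card_congr Multiplicative.toAdd, Nat.card_prod, Nat.card_eq_fintype_card, hK, ← qq, Nat.cast_mul]
      rw [hcard] at hge
      have hA : ((k : ℝ) - 1) * B ≤ ((qq m : ℝ) + rr m) * B :=
        mul_le_mul_of_nonneg_right (by linarith) (by positivity)
      have hfrac : ((k : ℝ) - 1) * B / pp m ≤ ((qq m : ℝ) + rr m) * B / pp m :=
        div_le_div_of_nonneg_right hA hP0.le
      have hlast : (qq m : ℝ) * qq m ≤ ((qq m : ℝ) + rr m + 1) + ((qq m : ℝ) - 1) * (1 + ((qq m : ℝ) + rr m) * B / pp m) := by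
        have := mul_le_mul_of_nonneg_left hfrac (show (0 : ℝ) ≤ (qq m : ℝ) - 1 by linarith)
        linarith
      have hlast' : ((qq m : ℝ) * qq m - 2 * qq m - rr m) * pp m ≤
          ((qq m : ℝ) - 1) * (((qq m : ℝ) + rr m) * B) := by
        rw [← le_div_iff₀ hP0, mul_div_assoc]
        linarith
      rw [hB] at hlast'
      have e1 : ((qq m : ℝ) + rr m) * rr m = qq m * rr m + 3 * qq m := by rw [add_mul, hr2]
      have e2 : ((qq m : ℝ) - 1) * (((qq m : ℝ) + rr m) * ((qq m : ℝ) * rr m)) ≤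
          ((qq m : ℝ) - 1) * ((qq m : ℝ) * ((qq m : ℝ) * qq m / 3 + 3 * qq m)) := by
        refine mul_le_mul_of_nonneg_left ?_ (by linarith)
        rw [mul_left_comm, e1]
        exact mul_le_mul_of_nonneg_left (by nlinarith) (by linarith)
      have e3 : ((qq m : ℝ) * qq m - 3 * qq m) * ((qq m : ℝ) * qq m - qq m) ≤
          ((qq m : ℝ) * qq m - 2 * qq m - rr m) * pp m :=
        mul_le_mul (by linarith) (by linarith) (by nlinarith) (by nlinarith)
      nlinarith [mul_pos (mul_pos (show (0 : ℝ) < qq m by linarith) (show (0 : ℝ) < qq m by linarith))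
        (show (0 : ℝ) < (qq m : ℝ) - 1 by linarith)]
    · -- order six
      obtain ⟨c, s, hs, hc⟩ := six_form hm hK hi h4 ho
      refine hfin c _ hc (cc_of_pos hinv (small _ ((cent_six hm hK hi h4 hs).trans (by omega))))
    · -- order nine
      obtain ⟨c, hc⟩ := (𝕊).conj_U (x := g) (k := 2) (by rw [show (3 : ℕ) ^ 2 = orderOf g by omega, pow_orderOf_eq_one])
      obtain ⟨t', u', v', he⟩ := U_form hm hK hi h4 hc
      have ht' : t' ≠ 0 := by
        rintro rfl
        have h1 : uq hi 0 u' v' ^ 3 = 1 := Subtype.ext (W_cube_zero u' v')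
        rw [he, conj_pow] at h1
        have := orderOf_dvd_of_pow_eq_one (conj_eq_one_iff.1 h1)
        rw [ho] at this
        norm_num at this
      exact hfin c _ he.symm (cc_of_pos hinv (small _ (cent_nine hm hK hi h4 ht')))
  by_cases h2g : orderOf g = 2
  · obtain ⟨d, hd⟩ := (𝕊).inv_conj g (by rw [← sq, ← h2g, pow_orderOf_eq_one]) hg
    rw [← hd]
    exact (cc_of_pos hinv (fv_invol (𝕊) hT hT₂ hTI hb₂ hc₀ h2 hcase hdeg)).conj d
  · have hlt : 2 < orderOf g := by
      have := orderOf_pos g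
      have : orderOf g ≠ 1 := fun e => hg (orderOf_eq_one_iff.1 e)
      omega
    obtain ⟨T', k', b', c', hT', -, hc', hcase'⟩ := htori g hlt h3g
    refine hfin c'⁻¹ _ (by group) (cc_of_pos hinv (small (c'⁻¹ * g * c') ?_))
    rw [card_cent hT' hc' (by rwa [show c'⁻¹ * g * c' = c'⁻¹ * g * c'⁻¹⁻¹ by group, orderOf_conj])]
    rcases hcase' with h | ⟨-, h⟩ <;> omega

end CfsgLib.ThompsonRee
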